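import Groth.Agent.SDiv.K476.HomSh2
import Groth.Agent.Krr.H463.DualLam
import Groth.Agent.PerfA.QCohEpi

/-!
# The sheaf Hom of the reflexive hull files and the internal Hom of the library

`nonempty_iso`: `RefHull.homSh E N ≅ homSheaf E N` for `E` finite locally free of constant rank.
`dual_mul_lam`: `[E^∨] · λ^m [E] = λ^{m-1} [E]` for `E^∨ = RefHull.dual E`.
-/

set_option autoImplicit false

universe u v

open CategoryTheory CategoryTheory.Limits AlgebraicGeometry TopologicalSpace Opposite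

namespace K879.DualCmp

open Groth.Agent RefHull K476.HomSh1 K476.HomSh2
open Groth.Agent.Sga67.Sec Groth.Agent.Sga67.LocBasis Groth.Agent.Krr.H463.HomBasis
open Groth.Agent.CohqB.HomSheaf (homSheaf)

variable {X : Scheme.{u}} {E N : X.Modules}

theorem secMap_res' {U V W : X.Opens} (g : Γ(homSh E N, U)) (hV : V ≤ U) (hW : W ≤ V) (m : Sec E V) :
    secMap g (hW.trans hV) (res E hW m) = res N hW (secMap g hV m) :=
  secMap_res g hV hW m

/-- The section of `homSheaf` attached to a section of `homSh`. -/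
noncomputable def cmpSec {U : X.Opens} (g : Γ(homSh E N, U)) : Sec (homSheaf E N) U :=
  (exists_sec (E := E) (N := N) (fun V hV => secMap g hV)
    (fun V W hV h m => secMap_res' g hV h m)).choose

theorem cS_cmpSec {U : X.Opens} (g : Γ(homSh E N, U)) {V : X.Opens} (hV : V ≤ U) (m : Sec E V) :
    cS (cmpSec g) hV m = secMap g hV m :=
  (exists_sec (E := E) (N := N) (fun V hV => secMap g hV)
    (fun V W hV h m => secMap_res' g hV h m)).choose_spec V hV m

theorem secMap_smul' {U : X.Opens} (r : Γ(X, U)) (g : Γ(homSh E N, U)) {V : X.Opens} (hV : V ≤ U)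
    (m : Γ(E, V)) : secMap (r • g) hV m = (resO X hV r) • secMap g hV m := by
  refine K476.HomSh1.sec_ext N (fun x hx => ?_)
  rw [germ_secMap, Mero.germ_smul, germ_secMap]
  have h1 : X.presheaf.germ V x hx (resO X hV r) = X.presheaf.germ U x (hV hx) r :=
    TopCat.Presheaf.germ_res_apply X.presheaf (homOfLE hV) x hx r
  rw [h1]
  rfl

theorem secMap_zero {U V : X.Opens} (hV : V ≤ U) : secMap (0 : Γ(homSh E N, U)) hV = 0 :=
  add_eq_left.1 (by rw [← secMap_add, add_zero] :
    secMap (0 : Γ(homSh E N, U)) hV + secMap (0 : Γ(homSh E N, U)) hV = secMap 0 hV)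

theorem cmpSec_zero {U : X.Opens} : cmpSec (0 : Γ(homSh E N, U)) = 0 := cS_ext fun _ hV m =>
  (cS_cmpSec _ hV m).trans (LinearMap.congr_fun (secMap_zero hV) m)

theorem cmpSec_add {U : X.Opens} (g h : Γ(homSh E N, U)) : cmpSec (g + h) = cmpSec g + cmpSec h :=
  cS_ext fun _ hV m =>
    (cS_cmpSec _ hV m).trans ((LinearMap.congr_fun (secMap_add g h hV) m).trans
      (congrArg₂ (· + ·) (cS_cmpSec g hV m).symm (cS_cmpSec h hV m).symm))

theorem cmpSec_smul {U : X.Opens} (r : Γ(X, U)) (g : Γ(homSh E N, U)) :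
    cmpSec (r • g) = r • cmpSec g :=
  cS_ext fun _ hV m => (cS_cmpSec _ hV m).trans ((secMap_smul' r g hV m).trans
    ((congrArg _ (cS_cmpSec g hV m).symm).trans (cS_smul hV r (cmpSec g) m).symm))

/-- The comparison morphism. -/
noncomputable def cmp (E N : X.Modules) : homSh E N ⟶ homSheaf E N :=
  ⟨PresheafOfModules.homMk (M₁ := (homSh E N).val) (M₂ := (homSheaf E N).val)
    { app := fun U => AddCommGrpCat.ofHom
        { toFun := fun (g : Γ(homSh E N, U.unop)) => (cmpSec g : Sec (homSheaf E N) U.unop)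
          map_zero' := cmpSec_zero (U := U.unop)
          map_add' := fun g h => cmpSec_add (U := U.unop) g h }
      naturality := by
        intro U V f
        ext g
        refine cS_ext (E := E) (N := N) fun W hW m => ?_
        refine (cS_cmpSec (U := V.unop) _ hW m).trans ?_
        refine (secMap_res_left g (leOfHom f.unop) hW m).trans ?_
        exact ((cS_res (leOfHom f.unop) hW (cmpSec g) m).trans (cS_cmpSec _ _ _)).symm }
    (fun U r g => cmpSec_smul (U := U.unop) r g)⟩

theorem appS_cmp {U : X.Opens} (g : Sec (homSh E N) U) : appS (cmp E N) U g = cmpSec g := rfl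

theorem isIso_cmp {n : ℕ} (hE : FlatMod.IsFinLocFreeOfRank n E) : IsIso (cmp E N) := by
  have hqc : Coh.IsQCoh E := PerfA.QCohEpi.isQCoh_of_isFinLocFree (fun x => by
    obtain ⟨V, hx, e⟩ := hE x
    exact ⟨V, n, hx, e⟩)
  refine isIso_of_bijective _ fun x U hx => ?_
  obtain ⟨W, hW, e, hxW, he⟩ := Krr.H463.Wedge.exists_affine_basis hE hx
  refine ⟨W.1, hW, hxW, ?_⟩
  have h1 := ev_bijective (N := N) he (le_refl W.1)
  rw [← Function.Bijective.of_comp_iff' h1]
  have h2 : Function.Bijective (fun g : Sec (homSh E N) W.1 =>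
      fun j => (affEquivSelf W.2 hqc g : Γ(E, W.1) →ₗ[Γ(X, W.1)] Γ(N, W.1)) (e j)) := by
    have h3 : Function.Bijective (fun l : Sec E W.1 →ₗ[Γ(X, W.1)] Sec N W.1 => fun j => l (e j)) := by
      have h4 := (((he.basis (le_refl W.1)).constr Γ(X, W.1) (M' := Sec N W.1)).symm).bijective
      refine (congrArg Function.Bijective ?_).mp h4
      funext l j
      rw [Module.Basis.constr_symm_apply, IsLocBasis.basis_apply, res_self]
    exact h3.comp (affEquivSelf W.2 hqc).bijective
  refine (congrArg Function.Bijective ?_).mp h2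
  funext g j
  refine (congrArg (secMap g le_rfl) (res_self E (le_refl W.1) (e j)).symm).trans ?_
  exact (cS_cmpSec g le_rfl _).symm

/-- `RefHull.homSh E N ≅ homSheaf E N`. -/
theorem nonempty_iso {n : ℕ} (hE : FlatMod.IsFinLocFreeOfRank n E) :
    Nonempty (homSh E N ≅ homSheaf E N) := by
  have := isIso_cmp (N := N) hE
  exact ⟨asIso (cmp E N)⟩

theorem isFinLocFreeOfRank_dual {n : ℕ} (hE : FlatMod.IsFinLocFreeOfRank n E) :
    FlatMod.IsFinLocFreeOfRank n (RefHull.dual E) := by
  obtain ⟨e⟩ := nonempty_iso (N := Coh.structureModule X) hE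
  exact Krr.H463.DualLam.isFinLocFreeOfRank_of_iso e.symm
    (Krr.H463.DualLam.isFinLocFreeOfRank_homSheaf hE)

/-- `[E^∨] · λ^m [E] = λ^{m-1} [E]` for `E` of rank `m ≥ 1`. -/
theorem dual_mul_lam {K : Type v} [CommRing K] [LambdaRing.LambdaOps K] {P : LambdaRing.PosStructure K}
    {φ : SGA6.Kvb X →+ K} (hK : KRR.IsModel X K P φ) {m : ℕ} (hm : 1 ≤ m)
    (hE : FlatMod.IsFinLocFreeOfRank m E) :
    φ (KRR.cl X (RefHull.dual E)) * LambdaRing.LambdaOps.lam m (φ (KRR.cl X E)) =
      LambdaRing.LambdaOps.lam (m - 1) (φ (KRR.cl X E)) := by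
  obtain ⟨n, rfl⟩ : ∃ n, m = n + 1 := ⟨m - 1, by omega⟩
  have hE' : FlatMod.IsFinLocFree E := Krr.H463.DualLam.isFinLocFree_of_rank hE
  obtain ⟨L, hL, hLE⟩ := Krr.H495.ExtExist.exists_isExtPow n E hE'
  obtain ⟨D, hD, hDE⟩ := Krr.H495.ExtExist.exists_isExtPow (n + 1) E hE'
  obtain ⟨e0⟩ := nonempty_iso (N := Coh.structureModule X) hE
  have hV : FlatMod.IsFinLocFree (homSheaf E (Coh.structureModule X)) :=
    Krr.H463.DualLam.isFinLocFree_of_rank (Krr.H463.DualLam.isFinLocFreeOfRank_homSheaf hE)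
  have hV' : FlatMod.IsFinLocFree (RefHull.dual E) :=
    Krr.H463.DualLam.isFinLocFree_of_rank (isFinLocFreeOfRank_dual hE)
  obtain ⟨e1⟩ := Krr.H463.Wedge.nonempty_iso hE hLE hDE
  obtain ⟨e2⟩ := Krr.H463.HomTensor.nonempty_iso hE' (Krr.H463.DualLam.isFinLocFreeOfRank_top hE hDE)
  rw [Nat.add_sub_cancel, hK.map_lam (n + 1) E D hE' hD hDE, hK.map_lam n E L hE' hL hLE,
    show KRR.cl X (RefHull.dual E) = KRR.cl X (homSheaf E (Coh.structureModule X)) from
      Sga67.KvbRing.c_iso e0 hV', hK.map_mul _ _ hV hD]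
  congr 1
  exact (Sga67.KvbRing.c_iso (e1 ≪≫ e2.symm) hL).symm

end K879.DualCmp
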