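import Groth.Prelude.Def_CInt
import Mathlib.LinearAlgebra.TensorProduct.Pi
import Mathlib.LinearAlgebra.TensorProduct.RightExactness
import Mathlib.LinearAlgebra.Basis.Basic

/-!
# Vanishing of the first Koszul homology from an abstract Koszul complex
-/

set_option autoImplicit false

universe u v w

open TensorProduct

namespace K879.KosAlg

/-- `M ⊗ K₁ ≅ M^n` for `K₁` free with basis `b`. -/
noncomputable def eqv {A : Type u} [CommRing A] {n : ℕ} (M : Type v) [AddCommGroup M] [Module A M]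
    {K₁ : Type w} [AddCommGroup K₁] [Module A K₁] (b : Module.Basis (Fin n) A K₁) :
    M ⊗[A] K₁ ≃ₗ[A] (Fin n → M) :=
  (LinearEquiv.lTensor M b.equivFun) ≪≫ₗ (TensorProduct.piScalarRight A A M (Fin n))

theorem eqv_tmul {A : Type u} [CommRing A] {n : ℕ} (M : Type v) [AddCommGroup M] [Module A M]
    {K₁ : Type w} [AddCommGroup K₁] [Module A K₁] (b : Module.Basis (Fin n) A K₁) (x : M) (i : Fin n) :
    eqv M b (x ⊗ₜ[A] b i) = Pi.single i x := by
  classical
  ext j
  simp only [eqv, LinearEquiv.trans_apply, LinearEquiv.lTensor_tmul, Module.Basis.equivFun_self,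
    TensorProduct.piScalarRight_apply, TensorProduct.piScalarRightHom_tmul]
  by_cases h : i = j
  · subst h; simp
  · simp [h, Pi.single_apply, eq_comm]

/-- The first Koszul homology `H₁(f, M)` vanishes if `M ⊗ K₂ → M ⊗ K₁ → M ⊗ K₀` is exact for the Koszul
differentials on a free module `K₁` with basis `b`. -/
theorem koszulH1Zero_of_exact {A : Type u} [CommRing A] {n : ℕ} (f : Fin n → A)
    (M : Type v) [AddCommGroup M] [Module A M] {K₂ K₁ K₀ : Type w} [AddCommGroup K₂] [Module A K₂]
    [AddCommGroup K₁] [Module A K₁] [AddCommGroup K₀] [Module A K₀]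
    (d₂ : K₂ →ₗ[A] K₁) (d₁ : K₁ →ₗ[A] K₀) (b : Module.Basis (Fin n) A K₁) (c : K₀)
    (hd₁ : ∀ i, d₁ (b i) = f i • c) (w : Fin n → Fin n → K₂)
    (hw : Submodule.span A (Set.range (fun p : Fin n × Fin n => w p.1 p.2)) = ⊤)
    (hd₂ : ∀ i j, d₂ (w i j) = f i • b j - f j • b i)
    (hex : ∀ t : M ⊗[A] K₁, d₁.lTensor M t = 0 → ∃ t', d₂.lTensor M t' = t) :
    CInt.KoszulH1Zero f M := by
  intro m hm
  set S := Submodule.span A {v : Fin n → M | ∃ (i j : Fin n) (x : M),
    v = f j • (Pi.single i x : Fin n → M) - f i • (Pi.single j x : Fin n → M)} with hS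
  have ht : d₁.lTensor M (∑ i, m i ⊗ₜ[A] b i) = 0 := by
    rw [map_sum]
    simp only [LinearMap.lTensor_tmul, hd₁, ← TensorProduct.smul_tmul, ← TensorProduct.sum_tmul]
    rw [hm, TensorProduct.zero_tmul]
  obtain ⟨t', ht'⟩ := hex _ ht
  have key : ∀ t' : M ⊗[A] K₂, eqv M b (d₂.lTensor M t') ∈ S := by
    intro t'
    induction t' using TensorProduct.induction_on with
    | zero => rw [map_zero, map_zero]; exact S.zero_mem
    | add a b ha hb => rw [map_add, map_add]; exact S.add_mem ha hb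
    | tmul x k =>
      have hk : k ∈ Submodule.span A (Set.range (fun p : Fin n × Fin n => w p.1 p.2)) := by
        rw [hw]; trivial
      induction hk using Submodule.span_induction with
      | mem k hk =>
        obtain ⟨⟨i, j⟩, rfl⟩ := hk
        simp only [LinearMap.lTensor_tmul, hd₂, TensorProduct.tmul_sub, TensorProduct.tmul_smul,
          map_sub, map_smul, eqv_tmul]
        exact Submodule.subset_span ⟨j, i, x, rfl⟩
      | zero => simp only [TensorProduct.tmul_zero, map_zero]; exact S.zero_mem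
      | add a b _ _ ha hb => rw [TensorProduct.tmul_add, map_add, map_add]; exact S.add_mem ha hb
      | smul r a _ ha =>
        rw [TensorProduct.tmul_smul, map_smul, map_smul]
        exact S.smul_mem _ ha
  have h1 := key t'
  rw [ht', map_sum] at h1
  simp only [eqv_tmul] at h1
  have h2 : m = ∑ i, (Pi.single i (m i) : Fin n → M) := by
    classical
    exact (Finset.univ_sum_single m).symm
  rw [h2]
  exact h1

/-- The quotient of `M ⊗ K₀` by the image of `M ⊗ K₁` is `M / (f) M`. -/
theorem exists_quot {A : Type u} [CommRing A] {n : ℕ} (f : Fin n → A)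
    (M : Type v) [AddCommGroup M] [Module A M] {K₁ K₀ : Type w}
    [AddCommGroup K₁] [Module A K₁] [AddCommGroup K₀] [Module A K₀]
    (d₁ : K₁ →ₗ[A] K₀) (b₁ : Module.Basis (Fin n) A K₁) (b₀ : Module.Basis (Fin 1) A K₀) (c : K₀)
    (hc : b₀ 0 = c) (hd : ∀ i, d₁ (b₁ i) = f i • c)
    {G : Type v} [AddCommGroup G] [Module A G] (P : M ⊗[A] K₀ →ₗ[A] G) (hP : Function.Surjective P)
    (hPd : ∀ y : M ⊗[A] K₁, P (d₁.lTensor M y) = 0)
    (hPd' : ∀ z : M ⊗[A] K₀, P z = 0 → ∃ y, d₁.lTensor M y = z) :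
    ∃ ψ : M →ₗ[A] G, Function.Surjective ψ ∧
      LinearMap.ker ψ = Ideal.span (Set.range f) • (⊤ : Submodule A M) := by
  let A₀ := eqv M b₀
  let A₁ := eqv M b₁
  have hA₀ : ∀ m : M, A₀ (m ⊗ₜ[A] c) = Pi.single 0 m := fun m => by
    rw [← hc]; exact eqv_tmul _ b₀ m 0
  have hA₁ : ∀ (m : M) i, A₁ (m ⊗ₜ[A] b₁ i) = Pi.single i m := fun m i => eqv_tmul _ b₁ m i
  let ψ : M →ₗ[A] G := P ∘ₗ ((TensorProduct.mk A M K₀).flip c)
  have hψ : ∀ m, ψ m = P (m ⊗ₜ[A] c) := fun m => rfl
  refine ⟨ψ, ?_, ?_⟩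
  · intro g
    obtain ⟨z, rfl⟩ := hP g
    refine ⟨A₀ z 0, ?_⟩
    rw [hψ]
    have h1 : (A₀ z 0) ⊗ₜ[A] c = z := by
      apply A₀.injective
      rw [hA₀]
      funext i
      rw [Subsingleton.elim i 0, Pi.single_eq_same]
    rw [h1]
  · ext m
    rw [LinearMap.mem_ker, hψ]
    constructor
    · intro h
      obtain ⟨y, hy⟩ := hPd' _ h
      have h2 : y = ∑ i, (A₁ y i) ⊗ₜ[A] b₁ i := by
        apply A₁.injective
        rw [map_sum]
        simp only [hA₁]
        exact (Finset.univ_sum_single _).symm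
      rw [h2, map_sum] at hy
      simp only [LinearMap.lTensor_tmul, hd, ← TensorProduct.smul_tmul,
        ← TensorProduct.sum_tmul] at hy
      have h3 := congrFun (congrArg A₀ hy) 0
      rw [hA₀, hA₀, Pi.single_eq_same, Pi.single_eq_same] at h3
      rw [← h3]
      exact Submodule.sum_mem _ fun i _ => Submodule.smul_mem_smul
        (Ideal.subset_span ⟨i, rfl⟩) trivial
    · intro h
      refine Submodule.smul_induction_on h ?_ ?_
      · intro r hr m' _
        refine Submodule.span_induction (p := fun r _ => P ((r • m') ⊗ₜ[A] c) = 0) ?_ ?_ ?_ ?_ hr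
        · rintro _ ⟨i, rfl⟩
          have h1 : (f i • m') ⊗ₜ[A] c = d₁.lTensor M (m' ⊗ₜ[A] b₁ i) := by
            rw [LinearMap.lTensor_tmul, hd, TensorProduct.smul_tmul]
          rw [h1]
          exact hPd _
        · rw [zero_smul, TensorProduct.zero_tmul, map_zero]
        · intro a b _ _ ha hb
          rw [add_smul, TensorProduct.add_tmul, map_add, ha, hb, add_zero]
        · intro a b _ hb
          rw [smul_eq_mul, mul_smul, ← TensorProduct.smul_tmul', map_smul, hb, smul_zero]
      · intro a b ha hb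
        rw [TensorProduct.add_tmul, map_add, ha, hb, add_zero]

end K879.KosAlg
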