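import Groth.Prelude.Def_KoszulSh
import Groth.Agent.Dcoh.StalkT
import Groth.Agent.Sga67.KosStalk
import Groth.Agent.Krr.H490.LocBasisPull
import Groth.Agent.IntSh.K879.KosAlg

/-!
# The Koszul complex of a cosection twisted by a module, at a stalk

`C : KoszSh.Cx E s`, `E` with a local basis `e` over an affine open `W ∋ x`, `f i = s(e i)`:
* `koszulH1Zero`: exactness of `F ⊗ K` in degree one gives `H₁(f, F_x) = 0`;
* `exists_equiv`: `(F_V)_x ≅ F_x / (f) F_x` for `F_V = coker(F ⊗ K₁ → F ⊗ K₀)`.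
-/

set_option autoImplicit false

universe u

open CategoryTheory CategoryTheory.Limits AlgebraicGeometry Opposite TopologicalSpace
open scoped TensorProduct MonoidalCategory

namespace K879.KosStk

open Groth.Agent Groth.Agent.Sga67.Sec Groth.Agent.Sga67.LocBasis Groth.Agent.Sga67.LocBasisStalk
open Groth.Agent.Krr.H490.LocBasisPull Groth.Agent.Dcoh.Stalk

variable {X : Scheme.{u}}

section Idx

/-- Increasing families of length one. -/
def oneEmb (n : ℕ) : Fin n ≃ (Fin 1 ↪o Fin n) where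
  toFun i := OrderEmbedding.ofStrictMono (fun _ => i) (fun a b h => by
    exact absurd h (by rw [Subsingleton.elim a b]; exact lt_irrefl _))
  invFun g := g 0
  left_inv i := rfl
  right_inv g := by
    ext a
    rw [Subsingleton.elim a 0]
    rfl

/-- Increasing families of length zero. -/
def zeroEmb (n : ℕ) : Fin 1 ≃ (Fin 0 ↪o Fin n) where
  toFun _ := OrderEmbedding.ofStrictMono (fun a => Fin.elim0 a) (fun a _ _ => Fin.elim0 a)
  invFun _ := 0
  left_inv _ := Subsingleton.elim _ _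
  right_inv g := by
    ext a
    exact Fin.elim0 a

end Idx

section Gen

variable {R M : Type*} [CommRing R] [AddCommGroup M] [Module R M] (φ : M →ₗ[R] R)

theorem dGen_zero (v : M) : KoszSh.dGen φ 0 (fun _ => v) =
    φ v • exteriorPower.ιMulti R 0 (fun a => Fin.elim0 a) := by
  unfold KoszSh.dGen
  rw [Fin.sum_univ_one, Fin.val_zero, pow_zero, one_mul]
  congr 2
  exact Subsingleton.elim _ _

theorem dGen_one (v v' : M) : KoszSh.dGen φ 1 ![v, v'] =
    φ v • exteriorPower.ιMulti R 1 (fun _ => v') - φ v' • exteriorPower.ιMulti R 1 (fun _ => v) := by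
  have h0 : (fun j : Fin 1 => ![v, v'] ((0 : Fin 2).succAbove j)) = fun _ => v' := by
    funext a
    rw [Subsingleton.elim a 0]
    rfl
  have h1 : (fun j : Fin 1 => ![v, v'] ((1 : Fin 2).succAbove j)) = fun _ => v := by
    funext a
    rw [Subsingleton.elim a 0]
    rfl
  unfold KoszSh.dGen
  rw [Fin.sum_univ_two, Fin.val_zero, pow_zero, one_mul, Fin.val_one, pow_one, neg_one_mul,
    h0, h1, sub_eq_add_neg]
  exact congrArg _ (neg_smul (φ v') (exteriorPower.ιMulti R 1 (fun _ => v)))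

end Gen

variable {E : X.Modules} {s : E ⟶ Coh.structureModule X} (C : KoszSh.Cx E s)

/-- The section `v₀ ∧ … ∧ v_{p-1}` of `K_p`. -/
noncomputable def wd (p : ℕ) (W : X.affineOpens) (v : Fin p → Sec E W.1) : Sec (C.K.X p) W.1 :=
  (C.loc p W).symm (exteriorPower.ιMulti _ p v)

theorem isLocBasis_one {n : ℕ} {W : X.affineOpens} {e : Fin n → Sec E W.1} (he : IsLocBasis e) :
    IsLocBasis (M := C.K.X 1) (fun i : Fin n => wd C 1 W (fun _ => e i)) := by
  have h := (isLocBasis_extPow (i := 1) (C.loc 1) (C.loc_res 1) he).reindex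
    ((oneEmb n).trans Set.powersetCard.ofFinEmbEquiv)
  refine (congrArg (fun b => IsLocBasis (M := C.K.X 1) (U := W.1) b) ?_).mp h
  funext i
  rw [wd, exteriorPower.ιMulti_family]
  congr 2
  funext a
  simp only [oneEmb, Equiv.trans_apply, Equiv.symm_apply_apply, Function.comp_apply]
  rfl

theorem isLocBasis_zero {n : ℕ} {W : X.affineOpens} {e : Fin n → Sec E W.1} (he : IsLocBasis e) :
    IsLocBasis (M := C.K.X 0) (fun _ : Fin 1 => wd C 0 W (fun a => Fin.elim0 a)) := by
  have h := (isLocBasis_extPow (i := 0) (C.loc 0) (C.loc_res 0) he).reindex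
    ((zeroEmb n).trans Set.powersetCard.ofFinEmbEquiv)
  refine (congrArg (fun b => IsLocBasis (M := C.K.X 0) (U := W.1) b) ?_).mp h
  funext i
  rw [wd, exteriorPower.ιMulti_family]
  congr 2

/-- The value of the cosection on a section. -/
noncomputable def val (s : E ⟶ Coh.structureModule X) (W : X.affineOpens) (v : Sec E W.1) : Γ(X, W.1) :=
  KoszSh.secForm s W.1 v

theorem d_one (W : X.affineOpens) (v : Sec E W.1) :
    appS (C.K.d 1 0) W.1 (wd C 1 W (fun _ => v)) =
      val s W v • wd C 0 W (fun a => Fin.elim0 a) :=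
  ((C.rule 0 W (fun _ => v)).trans (congrArg _ (dGen_zero (KoszSh.secForm s W.1) v))).trans
    (map_smul _ _ _)

theorem d_two (W : X.affineOpens) (v v' : Sec E W.1) :
    appS (C.K.d 2 1) W.1 (wd C 2 W ![v, v']) =
      val s W v • wd C 1 W (fun _ => v') - val s W v' • wd C 1 W (fun _ => v) := by
  refine ((C.rule 1 W ![v, v']).trans (congrArg _ (dGen_one (KoszSh.secForm s W.1) v v'))).trans ?_
  refine (map_sub _ _ _).trans ?_
  exact congrArg₂ _ (map_smul _ _ _) (map_smul _ _ _)

section Stalk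

variable (F : X.Modules) (x : X)

/-- The stalk map. -/
noncomputable def sM {M N : X.Modules} (φ : M ⟶ N) (x : X) :
    M.presheaf.stalk x →ₗ[X.presheaf.stalk x] N.presheaf.stalk x :=
  Fdesc.Skyscraper.stalkMap φ x

theorem sM_ger {M N : X.Modules} (φ : M ⟶ N) {U : X.Opens} (hx : x ∈ U) (t : Sec M U) :
    sM φ x (ger M x hx t) = ger N x hx (appS φ U t) :=
  Sga67.KosStalk.stM_gm φ hx t

theorem stalkF_map_apply {M N : X.Modules} (φ : M ⟶ N) (t : M.presheaf.stalk x) :
    (stalkF x).map φ t = sM φ x t := rfl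

/-- Exactness of `F ⊗ -` of a sequence on stalks, as lifting of elements of `F_x ⊗ K_x`. -/
theorem exists_lTensor {K₂ K₁ K₀ : X.Modules} (a : K₂ ⟶ K₁) (b : K₁ ⟶ K₀)
    (w : (DCoh.tensorBi.obj F).map a ≫ (DCoh.tensorBi.obj F).map b = 0)
    (hex : (ShortComplex.mk _ _ w).Exact)
    (t : F.presheaf.stalk x ⊗[X.presheaf.stalk x] K₁.presheaf.stalk x)
    (ht : (sM b x).lTensor (F.presheaf.stalk x) t = 0) :
    ∃ t', (sM a x).lTensor (F.presheaf.stalk x) t' = t := by
  let T₂ := tensorStalkIso F K₂ x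
  let T₁ := tensorStalkIso F K₁ x
  let T₀ := tensorStalkIso F K₀ x
  have n1 : ∀ z, T₀.hom ((stalkF x).map ((DCoh.tensorBi.obj F).map b) z) =
      (sM b x).lTensor (F.presheaf.stalk x) (T₁.hom z) := fun z =>
    congr($(tensorStalkIso_naturality_right (M := F) b x) z)
  have n2 : ∀ z, T₁.hom ((stalkF x).map ((DCoh.tensorBi.obj F).map a) z) =
      (sM a x).lTensor (F.presheaf.stalk x) (T₂.hom z) := fun z =>
    congr($(tensorStalkIso_naturality_right (M := F) a x) z)
  have h0 : (stalkF x).map ((DCoh.tensorBi.obj F).map b) (T₁.inv t) = 0 := by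
    have h1 : T₀.hom ((stalkF x).map ((DCoh.tensorBi.obj F).map b) (T₁.inv t)) = 0 := by
      rw [n1]
      have : T₁.hom (T₁.inv t) = t := congr($(T₁.inv_hom_id) t)
      rw [this]
      exact ht
    have h2 := congrArg T₀.inv h1
    have h3 : T₀.inv (T₀.hom ((stalkF x).map ((DCoh.tensorBi.obj F).map b) (T₁.inv t))) =
      (stalkF x).map ((DCoh.tensorBi.obj F).map b) (T₁.inv t) := congr($(T₀.hom_inv_id) _)
    rw [h3] at h2
    rw [h2]
    exact map_zero _
  obtain ⟨z, hz⟩ : ∃ z : (stalkF x).obj ((DCoh.tensorBi.obj F).obj K₂),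
      (stalkF x).map ((DCoh.tensorBi.obj F).map a) z = T₁.inv t :=
    Sga67.KosStalk.stM_exact hex x (T₁.inv t) h0
  refine ⟨T₂.hom z, (n2 z).symm.trans ((congrArg _ hz).trans ?_)⟩
  exact congr($(T₁.inv_hom_id) t)

end Stalk

section Main

variable (s) in
/-- The coordinates of the cosection at `x`. -/
noncomputable def fx {n : ℕ} {W : X.affineOpens} (e : Fin n → Sec E W.1) {x : X} (hx : x ∈ W.1) :
    Fin n → X.presheaf.stalk x := fun i => gerO x hx (val s W (e i))

variable {n : ℕ} {W : X.affineOpens} {e : Fin n → Sec E W.1} (he : IsLocBasis e) {x : X}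
  (hx : x ∈ W.1) (F : X.Modules)

theorem sM_d_one (v : Sec E W.1) :
    sM (C.K.d 1 0) x (ger _ x hx (wd C 1 W (fun _ => v))) =
      gerO x hx (val s W v) • ger _ x hx (wd C 0 W (fun a => Fin.elim0 a)) := by
  rw [sM_ger, d_one, ger_smul]

theorem sM_d_two (v v' : Sec E W.1) :
    sM (C.K.d 2 1) x (ger _ x hx (wd C 2 W ![v, v'])) =
      gerO x hx (val s W v) • ger _ x hx (wd C 1 W (fun _ => v')) -
        gerO x hx (val s W v') • ger _ x hx (wd C 1 W (fun _ => v)) := by
  rw [sM_ger, d_two, ← ger_smul, ← ger_smul]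
  exact map_sub (TopCat.Presheaf.germ (C.K.X 1).presheaf W.1 x hx).hom _ _

include he in
theorem span_two : Submodule.span (X.presheaf.stalk x)
    (Set.range (fun p : Fin n × Fin n => ger _ x hx (wd C 2 W ![e p.1, e p.2]))) = ⊤ := by
  rw [eq_top_iff]
  have h := isLocBasis_extPow (i := 2) (C.loc 2) (C.loc_res 2) he
  rw [← (stalkBasis h x hx).span_eq, Submodule.span_le]
  rintro _ ⟨I, rfl⟩
  rw [stalkBasis_apply]
  refine Submodule.subset_span ⟨⟨Set.powersetCard.ofFinEmbEquiv.symm I 0,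
    Set.powersetCard.ofFinEmbEquiv.symm I 1⟩, ?_⟩
  refine congrArg (ger (C.K.X 2) x hx) (congrArg (C.loc 2 W).symm ?_)
  rw [exteriorPower.ιMulti_family]
  congr 1
  funext a
  fin_cases a <;> rfl

/-- `w : F ⊗ d₂ ≫ F ⊗ d₁ = 0`. -/
theorem w_two : (DCoh.tensorBi.obj F).map (C.K.d 2 1) ≫ (DCoh.tensorBi.obj F).map (C.K.d 1 0) = 0 := by
  rw [← Functor.map_comp, C.K.d_comp_d, Functor.map_zero]

include he in
/-- Exactness of `F ⊗ K` in degree one gives `H₁(f, F_x) = 0`. -/
theorem koszulH1Zero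
    (hex : (ShortComplex.mk _ _ (w_two C F)).Exact) :
    CInt.KoszulH1Zero (fx s e hx) (F.presheaf.stalk x) :=
  K879.KosAlg.koszulH1Zero_of_exact (fx s e hx) (F.presheaf.stalk x)
    (sM (C.K.d 2 1) x) (sM (C.K.d 1 0) x) (stalkBasis (isLocBasis_one C he) x hx)
    (ger _ x hx (wd C 0 W (fun a => Fin.elim0 a)))
    (fun i => by rw [stalkBasis_apply]; exact sM_d_one C hx (e i))
    (fun i j => ger _ x hx (wd C 2 W ![e i, e j])) (span_two C he hx)
    (fun i j => by rw [stalkBasis_apply, stalkBasis_apply]; exact sM_d_two C hx (e i) (e j))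
    (fun t ht => exists_lTensor F x _ _ (w_two C F) hex t ht)

include he in
/-- The stalk of `coker(F ⊗ K₁ → F ⊗ K₀)` is `F_x / (f) F_x`. -/
theorem exists_quot : ∃ ψ : F.presheaf.stalk x →ₗ[X.presheaf.stalk x]
      (cokernel ((DCoh.tensorBi.obj F).map (C.K.d 1 0))).presheaf.stalk x,
    Function.Surjective ψ ∧
      LinearMap.ker ψ = Ideal.span (Set.range (fx s e hx)) • (⊤ : Submodule (X.presheaf.stalk x) _) := by
  let π := cokernel.π ((DCoh.tensorBi.obj F).map (C.K.d 1 0))
  let T₁ := (tensorStalkIso F (C.K.X 1) x).toLinearEquiv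
  let T₀ := (tensorStalkIso F (C.K.X 0) x).toLinearEquiv
  have n1 : ∀ z, T₀ (sM ((DCoh.tensorBi.obj F).map (C.K.d 1 0)) x z) =
      (sM (C.K.d 1 0) x).lTensor (F.presheaf.stalk x) (T₁ z) := fun z =>
    congr($(tensorStalkIso_naturality_right (M := F) (C.K.d 1 0) x) z)
  refine K879.KosAlg.exists_quot (fx s e hx) (F.presheaf.stalk x) (sM (C.K.d 1 0) x)
    (stalkBasis (isLocBasis_one C he) x hx) (stalkBasis (isLocBasis_zero C he) x hx)
    (ger _ x hx (wd C 0 W (fun a => Fin.elim0 a))) (stalkBasis_apply _ _ _ _)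
    (fun i => by rw [stalkBasis_apply]; exact sM_d_one C hx (e i))
    ((sM π x) ∘ₗ T₀.symm.toLinearMap) ((Sga67.KosStalk.stM_surjective π x).comp T₀.symm.surjective)
    (fun y => ?_) (fun z hz => ?_)
  · have h1 := (n1 (T₁.symm y)).trans (congrArg _ (T₁.apply_symm_apply y))
    refine (congrArg (fun w => sM π x (T₀.symm w)) h1.symm).trans ?_
    refine (congrArg (sM π x) (T₀.symm_apply_apply _)).trans ?_
    exact Sga67.KosStalk.stM_comp_zero ((DCoh.tensorBi.obj F).map (C.K.d 1 0)) π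
      (cokernel.condition _) x _
  · obtain ⟨y, hy⟩ := Sga67.KosStalk.stM_exact
      (S := ShortComplex.mk ((DCoh.tensorBi.obj F).map (C.K.d 1 0)) π (cokernel.condition _))
      (ShortComplex.exact_cokernel _) x (T₀.symm z) hz
    refine ⟨T₁ y, (n1 y).symm.trans ?_⟩
    exact (congrArg T₀ hy).trans (T₀.apply_symm_apply z)

end Main

end K879.KosStk
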