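import Groth.Agent.Variety.K426.DimFib
import Groth.Agent.Variety.K426.Cut
import Groth.Agent.S3447
import Groth.Agent.CurvesB.DimPts
import Groth.Agent.FlatA.FibreDim
import Groth.Agent.IntSh.K877.Pts

/-!
# Dimension theory over a field for an equidimensional morphism and a horizontal cycle
-/

set_option autoImplicit false
universe u
open CategoryTheory CategoryTheory.Limits AlgebraicGeometry TopologicalSpace

namespace K879.DimK

open Groth.Agent

/-- A closed subset of a Noetherian scheme has finitely many points without proper generization. -/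
theorem finite_maximal {X : Scheme.{u}} [IsNoetherian X] {T : Set X} (hT : IsClosed T) :
    {x : X | x ∈ T ∧ ∀ ξ ∈ T, ξ ⤳ x → ξ = x}.Finite := by
  have hq : QuasiSober T := hT.isClosedEmbedding_subtypeVal.quasiSober
  have hn : NoetherianSpace T := hT.isClosedEmbedding_subtypeVal.isInducing.noetherianSpace
  have hfin : (irreducibleComponents T).Finite := NoetherianSpace.finite_irreducibleComponents
  let f : {x : X | x ∈ T ∧ ∀ ξ ∈ T, ξ ⤳ x → ξ = x} → irreducibleComponents T := fun x =>
    ⟨closure {⟨x.1, x.2.1⟩}, by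
      refine ⟨isIrreducible_singleton.closure, fun s hs hle => ?_⟩
      obtain ⟨ξ, hξ⟩ := QuasiSober.sober hs.closure isClosed_closure
      have h1 : ξ ⤳ (⟨x.1, x.2.1⟩ : T) := by
        rw [specializes_iff_mem_closure, hξ.def]
        exact subset_closure (hle (subset_closure rfl))
      have h2 : ξ.1 = x.1 := x.2.2 ξ.1 ξ.2 (h1.map continuous_subtype_val)
      have h3 : ξ = ⟨x.1, x.2.1⟩ := Subtype.ext h2
      rw [← h3]
      exact subset_closure.trans hξ.def.symm.subset⟩
  have hinj : Function.Injective f := by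
    intro x y hxy
    have h1 : closure {(⟨x.1, x.2.1⟩ : T)} = closure {(⟨y.1, y.2.1⟩ : T)} := congrArg Subtype.val hxy
    have h2 : (⟨x.1, x.2.1⟩ : T) ⤳ ⟨y.1, y.2.1⟩ := by
      rw [specializes_iff_mem_closure, h1]; exact subset_closure rfl
    exact Subtype.ext (y.2.2 x.1 x.2.1 (h2.map continuous_subtype_val))
  have : Finite (irreducibleComponents T) := hfin
  exact Set.finite_coe_iff.1 (Finite.of_injective f hinj)

/-- A closed set meets a fibre in a finite set if its points in the fibre do not specialize to each other. -/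
theorem finite_inter_fibre {X Y : Scheme.{u}} (π : X ⟶ Y) [LocallyOfFiniteType π] [QuasiCompact π]
    {C : Set X} (hC : IsClosed C) (y : Y)
    (h : ∀ x ∈ C, ∀ x' ∈ C, π x = y → π x' = y → x ⤳ x' → x = x') :
    (C ∩ π.base ⁻¹' {y}).Finite := by
  have hft : LocallyOfFiniteType (π.fiberToSpecResidueField y) :=
    MorphismProperty.pullback_snd (P := @LocallyOfFiniteType) _ _ inferInstance
  have hn : IsLocallyNoetherian (π.fiber y) :=
    LocallyOfFiniteType.isLocallyNoetherian (π.fiberToSpecResidueField y)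
  have hc : CompactSpace (π.fiber y) :=
    QuasiCompact.compactSpace_of_compactSpace (π.fiberToSpecResidueField y)
  have hN : IsNoetherian (π.fiber y) := {}
  have hπ : ∀ x : π.fiber y, π (π.fiberι y x) = y := by
    intro x
    have h1 : π.fiberι y x ∈ Set.range (π.fiberι y) := ⟨x, rfl⟩
    rw [Scheme.Hom.range_fiberι] at h1
    exact h1
  have hT : IsClosed ((π.fiberι y) ⁻¹' C) := hC.preimage (π.fiberι y).continuous
  have h1 := finite_maximal hT
  have h2 : ((π.fiberι y) ⁻¹' C).Finite := by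
    refine h1.subset fun x hx => ⟨hx, fun ξ hξ hs => ?_⟩
    apply (π.fiberι y).isEmbedding.injective
    exact h _ hξ _ hx (hπ ξ) (hπ x) (hs.map (π.fiberι y).continuous)
  have h3 := h2.image (π.fiberι y)
  rw [Set.image_preimage_eq_inter_range, Scheme.Hom.range_fiberι] at h3
  exact h3

section Fld

variable (k : Type u) [Field k] {X Y : Scheme.{u}}
  [X.Over (Spec (CommRingCat.of k))] [Y.Over (Spec (CommRingCat.of k))]
  [LocallyOfFiniteType (X ↘ (Spec (CommRingCat.of k)))]
  [LocallyOfFiniteType (Y ↘ (Spec (CommRingCat.of k)))]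

omit [Y.Over (Spec (CommRingCat.of k))] [LocallyOfFiniteType (Y ↘ (Spec (CommRingCat.of k)))] in
/-- `dim O_{X,x} + trdeg_k κ(x) = dim X` on an irreducible scheme. -/
theorem dim_add_trd [IrreducibleSpace X] (x : X) :
    ringKrullDim (X.presheaf.stalk x) + (VarietyB.DimSch.trd k X x : WithBot ℕ∞) =
      (VarietyB.DimSch.trd k X (genericPoint X) : WithBot ℕ∞) := by
  rw [← VarietyB.DimSch.localDim_eq k x]
  unfold FlatMor.localDim
  have h : ∀ U : {U : TopologicalSpace.Opens X // x ∈ U}, topologicalKrullDim (U.1 : Set X) =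
      (VarietyB.DimSch.trd k X (genericPoint X) : WithBot ℕ∞) := fun U =>
    VarietyB.DimSch.topologicalKrullDim_opens_eq_trd k U.1 ⟨x, U.2⟩
  have : Nonempty {U : TopologicalSpace.Opens X // x ∈ U} := ⟨⟨⊤, trivial⟩⟩
  simp only [h, ciInf_const]

/-- A point `z` of `X` of codimension `d` has transcendence degree at most `dim Y`, if the fibres of `π` have
dimension `≤ d`. -/
theorem trd_le [IrreducibleSpace X] [IrreducibleSpace Y] (π : X ⟶ Y)
    (hπ : π ≫ (Y ↘ (Spec (CommRingCat.of k))) = X ↘ (Spec (CommRingCat.of k))) (d : ℕ)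
    (hd : ∀ y : Y, topologicalKrullDim (↥(π.fiber y) : Type u) ≤ d) {z : X}
    (hz : ringKrullDim (X.presheaf.stalk z) = d) :
    VarietyB.DimSch.trd k X z ≤ VarietyB.DimSch.trd k Y (genericPoint Y) := by
  have h1 := K426.DimFib.dim_le_add k π hπ d fun y _ => by
    rw [← FlatA.FibreDim.topologicalKrullDim_fiber_eq]
    exact hd y
  rw [VarietyB.DimSch.topologicalKrullDim_eq_trd k, VarietyB.DimSch.topologicalKrullDim_eq_trd k,
    ← dim_add_trd k z, hz] at h1
  have h2 : ((d + VarietyB.DimSch.trd k X z : ℕ) : WithBot ℕ∞) ≤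
      ((d + VarietyB.DimSch.trd k Y (genericPoint Y) : ℕ) : WithBot ℕ∞) := by exact_mod_cast h1
  have h3 : d + VarietyB.DimSch.trd k X z ≤ d + VarietyB.DimSch.trd k Y (genericPoint Y) := by
    exact_mod_cast h2
  omega

/-- Points of the closure of `z` over a point of codimension `≤ 1` do not specialize to each other. -/
theorem eq_of_specializes [IrreducibleSpace Y] (π : X ⟶ Y)
    (hπ : π ≫ (Y ↘ (Spec (CommRingCat.of k))) = X ↘ (Spec (CommRingCat.of k))) {z : X}
    (hz : VarietyB.DimSch.trd k X z ≤ VarietyB.DimSch.trd k Y (genericPoint Y))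
    (hzπ : π z = genericPoint Y) {x x' : X} (hzx : z ⤳ x) (hxx' : x ⤳ x') (hp : π x = π x')
    (hy : ringKrullDim (Y.presheaf.stalk (π x)) ≤ 1) : x = x' := by
  by_contra hne
  have h1 := K426.Cut.trd_lt k hxx' hne
  have h2 := K426.DimKit.trd_map_le k π hπ x'
  have h3 := dim_add_trd k (π x)
  rw [← hp] at h2
  by_cases hzx' : z = x
  · subst hzx'
    rw [hzπ] at h2
    omega
  · have h4 := K426.Cut.trd_lt k hzx hzx'
    have h5 : (VarietyB.DimSch.trd k Y (genericPoint Y) : WithBot ℕ∞) ≤
        ((1 + VarietyB.DimSch.trd k Y (π x) : ℕ) : WithBot ℕ∞) := by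
      rw [← h3]
      push_cast
      exact add_le_add_left hy _
    have h6 : VarietyB.DimSch.trd k Y (genericPoint Y) ≤ 1 + VarietyB.DimSch.trd k Y (π x) := by
      exact_mod_cast h5
    omega

end Fld

/-- Points of codimension `≥ d + 2` lie over points of codimension `≥ 2`, if the fibres have dimension `≤ d`. -/
theorem two_le_of_le {X Y : Scheme.{u}} [IsLocallyNoetherian Y] (π : X ⟶ Y) [LocallyOfFiniteType π]
    [QuasiCompact π] (d : ℕ) (hd : ∀ y : Y, topologicalKrullDim (↥(π.fiber y) : Type u) ≤ d) {x : X}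
    (hx : ((d + 1 + 1 : ℕ) : WithBot ℕ∞) ≤ ringKrullDim (X.presheaf.stalk x)) :
    ((2 : ℕ) : WithBot ℕ∞) ≤ ringKrullDim (Y.presheaf.stalk (π x)) := by
  have h1 := Groth.Agent.S3447.result π x
  have h2 : ringKrullDim ((π.fiber (π x)).presheaf.stalk (π.asFiber x)) ≤ d :=
    (CurvesB.DimPts.ringKrullDim_stalk_le _).trans (hd _)
  have h3 := hx.trans (h1.trans (add_le_add le_rfl h2))
  change ((d + 1 + 1 : ℕ) : WithBot ℕ∞) ≤ ringKrullDim (Y.presheaf.stalk (π x)) + (d : WithBot ℕ∞) at h3
  obtain ⟨n, hn⟩ : ∃ n : WithBot ℕ∞, n = ringKrullDim (Y.presheaf.stalk (π x)) := ⟨_, rfl⟩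
  rw [← hn] at h3 ⊢
  induction n with
  | bot => simp at h3
  | coe n =>
    induction n with
    | top => exact le_top
    | coe n =>
      have h4 : ((d + 1 + 1 : ℕ) : WithBot ℕ∞) ≤ ((n + d : ℕ) : WithBot ℕ∞) := by exact_mod_cast h3
      have h5 : d + 1 + 1 ≤ n + d := by exact_mod_cast h4
      have h6 : 2 ≤ n := by omega
      have h7 : ((2 : ℕ) : WithBot ℕ∞) ≤ ((n : ℕ) : WithBot ℕ∞) := Nat.cast_le.mpr h6
      exact h7

end K879.DimK
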