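import Groth.Agent.S3447
import Groth.Agent.FormalA.AnnIdeal
import Groth.Agent.FormalA.ClosedImm
import Groth.Agent.CycB.CohStalk
import Groth.Agent.CurvesB.DimPts
import Groth.Agent.FlatA.FibreDim
import Groth.Agent.CycA.StalkIdeal
import Mathlib.RingTheory.KrullDimension.Module

/-!
# Dimension of the stalks of a coherent module and of its support in the fibres of a morphism
-/

set_option autoImplicit false

universe u

open CategoryTheory CategoryTheory.Limits AlgebraicGeometry TopologicalSpace

namespace K879.FibDim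

open Groth.Agent Groth.Agent.CycB Groth.Agent.CycB.LocQuot Groth.Agent.CycB.CohStalk

variable {X Y : Scheme.{u}}

/-- The scheme theoretic support. -/
noncomputable abbrev Sup {F : X.Modules} (hF : Coh.IsCoh F) : Scheme.{u} :=
  (FormalA.AnnIdeal.annIdeal F hF.1 hF.2).subscheme

/-- Its inclusion. -/
noncomputable abbrev inc {F : X.Modules} (hF : Coh.IsCoh F) : Sup hF ⟶ X :=
  (FormalA.AnnIdeal.annIdeal F hF.1 hF.2).subschemeι

theorem range_inc {F : X.Modules} (hF : Coh.IsCoh F) : Set.range (inc hF) = CohB1.support F :=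
  FormalA.AnnIdeal.range_subschemeι F hF.1 hF.2

/-- Stalks of a coherent module at generizations. -/
theorem eq_of_supportDim_nonpos {F : X.Modules} (hF : Coh.IsCoh F) {x ξ : X} (h : ξ ⤳ x)
    (hξ : ξ ∈ CohB1.support F)
    (hd : Module.supportDim (X.presheaf.stalk x) (F.presheaf.stalk x) ≤ 0) : ξ = x := by
  have hξ' : Nontrivial (F.presheaf.stalk ξ) := not_subsingleton_iff_nontrivial.mp hξ
  have hp : primeOf h ∈ Module.support (X.presheaf.stalk x) (F.presheaf.stalk x) :=
    mem_support_of_nontrivial F hF.1 h (primeOf_asIdeal h) hξ'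
  have hx' : Nontrivial (F.presheaf.stalk x) := by
    by_contra hc
    rw [not_nontrivial_iff_subsingleton] at hc
    rw [Module.support_eq_empty] at hp
    exact hp
  have hq : primeOf (specializes_refl x) ∈
      Module.support (X.presheaf.stalk x) (F.presheaf.stalk x) :=
    mem_support_of_nontrivial F hF.1 _ (primeOf_asIdeal _) hx'
  have hle : primeOf h ≤ primeOf (specializes_refl x) := (primeOf_le_iff _ _).2 h
  rw [Module.supportDim, Order.krullDim_nonpos_iff_forall_isMax] at hd
  have h1 := hd ⟨_, hp⟩ (b := ⟨_, hq⟩) hle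
  have h2 : primeOf h = primeOf (specializes_refl x) := le_antisymm hle h1
  exact (primeOf_inj _ _).1 h2

/-- `dim F_x ≤ dim O_{Z,z}` for `Z` the scheme theoretic support. -/
theorem supportDim_le_stalk [IsLocallyNoetherian X] {F : X.Modules} (hF : Coh.IsCoh F) (z : Sup hF) :
    Module.supportDim (X.presheaf.stalk (inc hF z)) (F.presheaf.stalk (inc hF z)) ≤
      ringKrullDim ((Sup hF).presheaf.stalk z) := by
  have hfin := finite_stalk F hF (inc hF z)
  rw [Module.supportDim_eq_ringKrullDim_quotient_annihilator]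
  have hle : RingHom.ker ((inc hF).stalkMap z).hom ≤
      Module.annihilator (X.presheaf.stalk (inc hF z)) (F.presheaf.stalk (inc hF z)) := by
    intro a ha
    rw [Module.mem_annihilator]
    intro m
    refine FormalA.ClosedImm.smul_eq_zero_of_killed
      (FormalA.AnnIdeal.killed_annIdeal F hF.1 hF.2) _ a ?_ m
    have h1 := CycA.StalkIdeal.stalkIdeal_ker (inc hF) z
    rw [Scheme.IdealSheafData.ker_subschemeι] at h1
    rw [h1]
    exact ha
  refine (ringKrullDim_le_of_surjective (Ideal.Quotient.factor hle)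
    (Ideal.Quotient.factor_surjective hle)).trans ?_
  exact (ringKrullDim_eq_of_ringEquiv
    (RingHom.quotientKerEquivOfSurjective ((inc hF).stalkMap_surjective z))).le

/-- `dim F_x ≤ dim O_{Y,y} + dim (Supp F ∩ π⁻¹ y)`. -/
theorem supportDim_le [IsLocallyNoetherian X] [IsLocallyNoetherian Y] (π : X ⟶ Y)
    [LocallyOfFiniteType π] [QuasiCompact π] {F : X.Modules} (hF : Coh.IsCoh F) {x : X}
    (hx : x ∈ CohB1.support F) :
    Module.supportDim (X.presheaf.stalk x) (F.presheaf.stalk x) ≤
      ringKrullDim (Y.presheaf.stalk (π x)) +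
        topologicalKrullDim ↥(CohB1.support F ∩ π.base ⁻¹' {π x}) := by
  rw [← range_inc hF] at hx
  obtain ⟨z, rfl⟩ := hx
  refine (supportDim_le_stalk hF z).trans ?_
  have h1 := Groth.Agent.S3447.result (inc hF ≫ π) z
  refine h1.trans (add_le_add le_rfl ?_)
  refine (CurvesB.DimPts.ringKrullDim_stalk_le _).trans ?_
  rw [FlatA.FibreDim.topologicalKrullDim_fiber_eq]
  let φ : ((inc hF ≫ π : Sup hF ⟶ Y) : Sup hF → Y) ⁻¹' {(inc hF ≫ π) z} →
      ↥(CohB1.support F ∩ π.base ⁻¹' {π (inc hF z)}) :=
    fun w => ⟨inc hF w.1, by rw [← range_inc hF]; exact ⟨w.1, rfl⟩, w.2⟩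
  have hφ : Topology.IsInducing φ := by
    have h2 : Topology.IsInducing (fun w : ((inc hF ≫ π : Sup hF ⟶ Y) : Sup hF → Y) ⁻¹'
        {(inc hF ≫ π) z} => inc hF w.1) :=
      (inc hF).isEmbedding.isInducing.comp Topology.IsInducing.subtypeVal
    exact Topology.IsInducing.of_comp_iff Topology.IsInducing.subtypeVal |>.1 h2
  exact hφ.topologicalKrullDim_le

end K879.FibDim
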