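import Groth.Agent.Cohder.KZEuler
import Mathlib.Algebra.Homology.ShortComplex.Abelian

/-!
# The Euler characteristic of a chain complex exact in positive degrees
-/

set_option autoImplicit false

universe v u

open CategoryTheory CategoryTheory.Limits

namespace K879.EulerCx

open Groth.Agent.Cohder.KZBasic Groth.Agent.Cohder.KZEuler

variable {A : Type u} [Category.{v} A] [Abelian A] {P : ObjectProperty A}

theorem exact_succ (K : ChainComplex A ℕ) (q : ℕ) (h : IsZero (K.homology (q + 1))) :
    (ShortComplex.mk (K.d (q + 2) (q + 1)) (K.d (q + 1) q) (K.d_comp_d _ _ _)).Exact := by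
  rw [← HomologicalComplex.exactAt_iff_isZero_homology,
    HomologicalComplex.exactAt_iff' K (q + 2) (q + 1) q (by simp) (by simp)] at h
  exact h

theorem sum_eq (hP : KClosed P) (K : ChainComplex A ℕ) (hK : ∀ i, P (K.X i))
    (hex : ∀ q : ℕ, 1 ≤ q → IsZero (K.homology q)) (n : ℕ) :
    ∑ i ∈ Finset.range (n + 1), (-1 : ℤ) ^ i • KZero.clSub P (K.X i) =
      KZero.clSub P (cokernel (K.d 1 0)) +
        (-1 : ℤ) ^ n • KZero.clSub P (Abelian.image (K.d (n + 1) n)) := by
  have hcok : P (cokernel (K.d 1 0)) := hP.coker _ (hK 1) (hK 0)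
  induction n with
  | zero =>
    rw [zero_add, Finset.sum_range_one, pow_zero, one_smul, one_smul]
    have h1 := clSub_exact hP (ShortComplex.mk (K.d 1 0) (cokernel.π (K.d 1 0))
      (cokernel.condition _)) (ShortComplex.exact_cokernel _) (hK 1) (hK 0) hcok
    have h2 : KZero.clSub P (Abelian.image (cokernel.π (K.d 1 0))) =
        KZero.clSub P (cokernel (K.d 1 0)) := by
      have h3 : IsIso (Abelian.image.ι (cokernel.π (K.d 1 0))) := by
        have : Epi (Abelian.factorThruImage (cokernel.π (K.d 1 0)) ≫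
            Abelian.image.ι (cokernel.π (K.d 1 0))) := by
          rw [Abelian.image.fac]; infer_instance
        have : Epi (Abelian.image.ι (cokernel.π (K.d 1 0))) := epi_of_epi
          (Abelian.factorThruImage (cokernel.π (K.d 1 0))) _
        exact isIso_of_mono_of_epi _
      exact clSub_iso P (fun Z hZ => hP.zero Z hZ) (asIso (Abelian.image.ι (cokernel.π (K.d 1 0))))
        (hP.image _ (hK 0) hcok) hcok
    refine h1.trans ?_
    rw [add_comm]
    exact congrArg (· + KZero.clSub P (Abelian.image (K.d 1 0))) h2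
  | succ n ih =>
    rw [Finset.sum_range_succ, ih]
    have h1 := clSub_exact hP _ (exact_succ K n (hex (n + 1) (Nat.succ_pos n))) (hK _) (hK _) (hK _)
    have h2 : KZero.clSub P (K.X (n + 1)) =
      KZero.clSub P (Abelian.image (K.d (n + 2) (n + 1))) +
        KZero.clSub P (Abelian.image (K.d (n + 1) n)) := h1
    rw [h2, smul_add, pow_succ, mul_neg_one, neg_smul, neg_smul]
    abel

/-- `[coker d₁] = Σ (-1)^i [K_i]`. -/
theorem clSub_cokernel (hP : KClosed P) (K : ChainComplex A ℕ) (hK : ∀ i, P (K.X i))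
    (hex : ∀ q : ℕ, 1 ≤ q → IsZero (K.homology q)) (n : ℕ) (hn : IsZero (K.X (n + 1))) :
    KZero.clSub P (cokernel (K.d 1 0)) =
      ∑ i ∈ Finset.range (n + 1), (-1 : ℤ) ^ i • KZero.clSub P (K.X i) := by
  rw [sum_eq hP K hK hex n, clSub_zero P (isZero_image_of_source _ hn), smul_zero, add_zero]

end K879.EulerCx
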