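import Groth.Prelude.Def_KDet
import Groth.Prelude.Def_KoszulSh
import Groth.Agent.IntSh.K879.EulerCx
import Groth.Agent.IntSh.K879.KosStk
import Groth.Agent.IntSh.K879.FibDim
import Groth.Agent.Krr.H485.PushCoh
import Groth.Agent.Krr.H502.KosZero
import Groth.Agent.Krr.H463.Wedge
import Groth.Agent.VarietyB.TensCoh
import Groth.Agent.Ega2.TensLift
import Groth.Agent.S2868
import Mathlib.RingTheory.KrullDimension.Regular

/-!
# The action of `λ_{-1}` on a coherent module through a Koszul complex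

* `cap_lamAlt`: `λ_{-1}[E'] · [F] = [F_V]`, `F_V = coker(F ⊗ E' → F)`, when `F ⊗ K(E', s)` is exact in positive degrees.
* `supportDim_add`: `dim (F_V)_x + rk E' = dim F_x` on the support of `F_V`.
-/

set_option autoImplicit false

universe u v

open CategoryTheory CategoryTheory.Limits AlgebraicGeometry TopologicalSpace

namespace K879.KosCap

open Groth.Agent Groth.Agent.Sga67.LocBasis Groth.Agent.Sga67.Sec K879.KosStk

variable {X : Scheme.{u}}

theorem isCoh_tensor {E F : X.Modules} (hE : FlatMod.IsFinLocFree E) (hF : Coh.IsCoh F) :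
    Coh.IsCoh (((DCoh.tensorBi (X := X)).obj F).obj E) :=
  PerfA.CohSerre.isCoh_of_iso (Ega2.Tens.swap E F)
    (VarietyB.TensCoh.isCoh_tensorMod (VarietyB.TensCoh.HasBases.of_isFinLocFree hE) hF)

section Cap

variable {K : Type v} [CommRing K] [LambdaRing.LambdaOps K] {P : LambdaRing.PosStructure K}
  {φ : SGA6.Kvb X →+ K}

/-- `[E] · [F] = [F ⊗ E]`. -/
theorem cap_cl [IsLocallyNoetherian X] {μ : K →+ SGA6.Kcoh X →+ SGA6.Kcoh X} (hμ : KDet.IsCap φ μ)
    {E F : X.Modules} (hE : FlatMod.IsFinLocFree E) (hF : Coh.IsCoh F) :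
    μ (φ (KRR.cl X E)) (KDet.clc X F) =
      KDet.clc X (((DCoh.tensorBi (X := X)).obj F).obj E) := by
  rw [hμ.map_cl E F hE hF]
  exact Krr.H485.PushCoh.clSub_coh_iso (Ega2.Tens.swap E F)

variable [IsLocallyNoetherian X] {n : ℕ} {E : X.Modules} {s : E ⟶ Coh.structureModule X}
  (C : KoszSh.Cx E s) (hE : FlatMod.IsFinLocFreeOfRank n E) {F : X.Modules} (hF : Coh.IsCoh F)

include hE in
theorem isFinLocFree_X (i : ℕ) : FlatMod.IsFinLocFree (C.K.X i) := by
  intro x
  obtain ⟨W, -, e, hx, he⟩ := Krr.H463.Wedge.exists_affine_basis hE (U := ⊤) (x := x) trivial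
  have h1 := isLocBasis_extPow (i := i) (C.loc i) (C.loc_res i) he
  obtain ⟨m, ⟨ε⟩⟩ := Finite.exists_equiv_fin (Set.powersetCard (Fin n) i)
  exact ⟨W.1, m, hx, nonempty_restrict_iso_iff.2 ⟨_, h1.reindex ε.symm⟩⟩

include hE hF in
/-- `λ_{-1}[E] · [F] = [coker(F ⊗ K₁ → F ⊗ K₀)]`. -/
theorem cap_lamAlt (hK : KRR.IsModel X K P φ)
    {μ : K →+ SGA6.Kcoh X →+ SGA6.Kcoh X} (hμ : KDet.IsCap φ μ)
    (hreg : ∀ q : ℕ, 1 ≤ q →
      IsZero (((((DCoh.tensorBi (X := X)).obj F).mapHomologicalComplex (ComplexShape.down ℕ)).obj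
        C.K).homology q)) :
    μ (KRR.lamAlt P (φ (KRR.cl X E))) (KDet.clc X F) =
      KDet.clc X (cokernel (((DCoh.tensorBi (X := X)).obj F).map (C.K.d 1 0))) := by
  have hfl := isFinLocFree_X C hE
  have h1 := K879.EulerCx.clSub_cokernel (Krr.H485.PushCoh.kclosed_coh X)
    (((((DCoh.tensorBi (X := X)).obj F).mapHomologicalComplex (ComplexShape.down ℕ)).obj C.K))
    (fun i => isCoh_tensor (hfl i) hF) hreg n
    (Functor.map_isZero ((DCoh.tensorBi (X := X)).obj F) (Krr.H502.KosZero.isZero_of_isExtPow hE (C.isExtPow (n + 1))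
      (Nat.lt_succ_self n)))
  refine Eq.trans ?_ h1.symm
  have haug : (P.aug (φ (KRR.cl X E))).toNat = n := by
    rw [hK.aug_cl n E hE]; exact Int.toNat_natCast n
  rw [KRR.lamAlt, haug, map_sum, AddMonoidHom.finsetSum_apply]
  refine Finset.sum_congr rfl fun i _ => ?_
  have h2 : LambdaRing.LambdaOps.lam i (φ (KRR.cl X E)) = φ (KRR.cl X (C.K.X i)) :=
    hK.map_lam i E (C.K.X i) (fun x => by
      obtain ⟨V, hx, e⟩ := hE x
      exact ⟨V, n, hx, e⟩) (hfl i) (C.isExtPow i)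
  have h3 : (-1 : K) ^ i * φ (KRR.cl X (C.K.X i)) = ((-1 : ℤ) ^ i) • φ (KRR.cl X (C.K.X i)) := by
    rw [zsmul_eq_mul]; push_cast; rfl
  rw [h2, h3, map_zsmul]
  exact congrArg _ (cap_cl hμ (hfl i) hF)

end Cap

section Dim

variable [IsLocallyNoetherian X] {n : ℕ} {E : X.Modules} {s : E ⟶ Coh.structureModule X}
  (C : KoszSh.Cx E s) (hE : FlatMod.IsFinLocFreeOfRank n E) {F : X.Modules} (hF : Coh.IsCoh F)

include hE hF in
/-- `dim (F_V)_x + rk E = dim F_x` on the support of `F_V`. -/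
theorem supportDim_add
    (hreg : IsZero (((((DCoh.tensorBi (X := X)).obj F).mapHomologicalComplex
        (ComplexShape.down ℕ)).obj C.K).homology 1))
    (x : X) (hx : x ∈ CohB1.support (cokernel (((DCoh.tensorBi (X := X)).obj F).map (C.K.d 1 0)))) :
    Module.supportDim (X.presheaf.stalk x)
        ((cokernel (((DCoh.tensorBi (X := X)).obj F).map (C.K.d 1 0))).presheaf.stalk x) +
          (n : WithBot ℕ∞) =
      Module.supportDim (X.presheaf.stalk x) (F.presheaf.stalk x) := by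
  obtain ⟨W, -, e, hxW, he⟩ := Krr.H463.Wedge.exists_affine_basis hE (U := ⊤) (x := x) trivial
  have hfin : Module.Finite (X.presheaf.stalk x) (F.presheaf.stalk x) :=
    CycB.CohStalk.finite_stalk F hF x
  obtain ⟨ψ, hψ, hker⟩ := exists_quot C he hxW F
  have hex := K879.EulerCx.exact_succ
    (((((DCoh.tensorBi (X := X)).obj F).mapHomologicalComplex (ComplexShape.down ℕ)).obj C.K)) 0 hreg
  have h1 := koszulH1Zero C he hxW F hex
  have hnt : ¬ Subsingleton
      ((cokernel (((DCoh.tensorBi (X := X)).obj F).map (C.K.d 1 0))).presheaf.stalk x) := hx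
  have hker' : LinearMap.ker ψ = Ideal.ofList (List.ofFn (fx s e hxW)) •
      (⊤ : Submodule (X.presheaf.stalk x) (F.presheaf.stalk x)) := by
    rw [hker]
    congr 2
    ext a
    simp [List.mem_ofFn]
  have hne : Ideal.ofList (List.ofFn (fx s e hxW)) •
      (⊤ : Submodule (X.presheaf.stalk x) (F.presheaf.stalk x)) ≠ ⊤ := by
    intro h
    apply hnt
    refine ⟨fun a b => ?_⟩
    obtain ⟨a, rfl⟩ := hψ a
    obtain ⟨b, rfl⟩ := hψ b
    rw [← sub_eq_zero, ← map_sub, ← LinearMap.mem_ker, hker', h]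
    trivial
  have hrad : ∀ i, fx s e hxW i ∈ (⊥ : Ideal (X.presheaf.stalk x)).jacobson := by
    intro i
    rw [IsLocalRing.jacobson_eq_maximalIdeal ⊥ bot_ne_top, IsLocalRing.mem_maximalIdeal]
    intro hu
    apply hne
    have h2 : Ideal.ofList (List.ofFn (fx s e hxW)) = ⊤ :=
      Ideal.eq_top_of_isUnit_mem _ (Ideal.subset_span (by
        change _ ∈ List.ofFn _
        rw [List.mem_ofFn]
        exact ⟨i, rfl⟩)) hu
    rw [h2, Submodule.top_smul]
  have h3 := Groth.Agent.S2868.result (fx s e hxW) hrad (F.presheaf.stalk x) h1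
  have h4 : RingTheory.Sequence.IsRegular (F.presheaf.stalk x) (List.ofFn (fx s e hxW)) :=
    ⟨h3, hne.symm⟩
  have h5 := Module.supportDim_add_length_eq_supportDim_of_isRegular (List.ofFn (fx s e hxW)) h4
  rw [List.length_ofFn] at h5
  rw [← h5]
  congr 1
  refine (Module.supportDim_eq_of_equiv ?_).symm
  exact (Submodule.quotEquivOfEq _ _ hker'.symm).trans (ψ.quotKerEquivOfSurjective hψ)

end Dim

end K879.KosCap
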