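import Groth.Agent.IntSh.K877.Dev
import Groth.Agent.IntSh.K878.KSup
import Groth.Agent.IntSh.K878.Cap
import Groth.Agent.Sga2.StalkGen68
import Groth.Agent.Krr.H446.ProjFormula
import Groth.Agent.Ega2.TensMon

/-!
# `(1 - [L]) · G_T ⊆ G_S` on `K_•`, and lifting support conditions from an open
-/

set_option autoImplicit false
universe u
open CategoryTheory CategoryTheory.Limits AlgebraicGeometry Opposite TopologicalSpace
open AlgebraicGeometry.Scheme.Modules
open Groth.Agent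

namespace K879.CapDrop

open K878.KSup

variable {X : Scheme.{u}}

theorem dev_eq (S : Set X) : IntSh.K877.Dev.G X S = ksup X S := rfl

theorem coniv_eq (p : ℕ) :
    KDet.coniv X p = ksup X {x | (p : WithBot ℕ∞) ≤ ringKrullDim (X.presheaf.stalk x)} := rfl

/-- Modules with isomorphic stalks have the same class modulo smaller support. -/
theorem clc_sub_clc_mem [IsNoetherian X] {S T : Set X} (hS : ∀ x ∈ S, ∀ y, x ⤳ y → y ∈ S)
    (hST : ∀ x ∈ T, x ∉ S → ∀ y, x ⤳ y → y ≠ x → y ∈ S) {G G' : X.Modules} (hG : Coh.IsCoh G)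
    (hG' : Coh.IsCoh G') (hGT : CohB1.support G ⊆ T) (hGT' : CohB1.support G' ⊆ T)
    (h : ∀ x, Nonempty (G.presheaf.stalk x ≃ₗ[X.presheaf.stalk x] G'.presheaf.stalk x)) :
    KDet.clc X G - KDet.clc X G' ∈ ksup X S := by
  obtain ⟨m, h1, h2, h3⟩ := IntSh.K877.Dev.exists_devissage S T hS hST G hG hGT
  obtain ⟨m', h1', h2', h3'⟩ := IntSh.K877.Dev.exists_devissage S T hS hST G' hG' hGT'
  have hm : m = m' := by
    ext x
    by_cases hx : x ∈ T ∧ x ∉ S
    · obtain ⟨e⟩ := h x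
      have h4 := e.length_eq
      rw [h3 x hx.1 hx.2, h3' x hx.1 hx.2] at h4
      exact_mod_cast h4
    · have e1 : m x = 0 := by
        by_contra h0
        exact hx (h1 x h0)
      have e2 : m' x = 0 := by
        by_contra h0
        exact hx (h1' x h0)
      rw [e1, e2]
  subst hm
  rw [dev_eq] at h2 h2'
  have h5 := sub_mem h2 h2'
  rw [sub_sub_sub_cancel_right] at h5
  exact h5

/-- `(1 - [L]) · [G]` has smaller support. -/
theorem clc_sub_tensor_mem [IsNoetherian X] {S T : Set X} (hS : ∀ x ∈ S, ∀ y, x ⤳ y → y ∈ S)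
    (hST : ∀ x ∈ T, x ∉ S → ∀ y, x ⤳ y → y ≠ x → y ∈ S) {L : X.Modules} (hL : PicF.IsInvertible L)
    {G : X.Modules} (hG : Coh.IsCoh G) (hGT : CohB1.support G ⊆ T) :
    KDet.clc X G - KDet.clc X (((DCoh.tensorBi (X := X)).obj L).obj G) ∈ ksup X S := by
  have hLf : FlatMod.IsFinLocFree L := fun x => by
    obtain ⟨U, hx, ⟨e⟩⟩ := (Groth.Agent.Ega2.QCohLocal.isFinLocFreeOfRank_one_iff.2 hL) x
    exact ⟨U, _, hx, ⟨e⟩⟩
  have hLG : Coh.IsCoh (((DCoh.tensorBi (X := X)).obj L).obj G) :=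
    Groth.Agent.VarietyB.TensCoh.isCoh_tensorMod (Groth.Agent.VarietyB.TensCoh.HasBases.of_isFinLocFree hLf) hG
  refine clc_sub_clc_mem hS hST hG hLG hGT ((K878.Cap.support_tensor_right L G).trans hGT) fun x => ?_
  obtain ⟨e⟩ := Groth.Agent.Sga2.StalkGen68.nonempty_stalkEquiv_tensor G hL x
  exact ⟨e.trans (CycB.StalkExact.stalkLinEquiv (Groth.Agent.Ega2.Tens.swap G L) x)⟩

section Cap

variable {K : Type u} [CommRing K] [LambdaRing.LambdaOps K] {P : LambdaRing.PosStructure K}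
  {φ : SGA6.Kvb X →+ K} {μ : K →+ SGA6.Kcoh X →+ SGA6.Kcoh X}

theorem one_sub_cap_mem [IsNoetherian X] (hμ : KDet.IsCap φ μ) {S T : Set X}
    (hS : ∀ x ∈ S, ∀ y, x ⤳ y → y ∈ S)
    (hST : ∀ x ∈ T, x ∉ S → ∀ y, x ⤳ y → y ≠ x → y ∈ S) {L : X.Modules} (hL : PicF.IsInvertible L)
    {ξ : SGA6.Kcoh X} (hξ : ξ ∈ ksup X T) : μ (1 - φ (KRR.cl X L)) ξ ∈ ksup X S := by
  have hL' : FlatMod.IsFinLocFree L := fun x => by
    obtain ⟨U, hx, ⟨e⟩⟩ := (Groth.Agent.Ega2.QCohLocal.isFinLocFreeOfRank_one_iff.2 hL) x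
    exact ⟨U, _, hx, ⟨e⟩⟩
  refine map_mem_of (μ (1 - φ (KRR.cl X L))) _ (fun G hG hGT => ?_) hξ
  rw [map_sub, AddMonoidHom.sub_apply, hμ.one_smul, hμ.map_cl L G hL' hG]
  exact clc_sub_tensor_mem hS hST hL hG hGT

end Cap

section Lift

variable [IsNoetherian X] {V : Scheme.{u}} (j : V ⟶ X) [IsOpenImmersion j]

/-- A class whose restriction to an open is supported in `T'` is supported in `T`, if `T` contains `T'` and the
complement of the open. -/
theorem mem_of_res_mem {T' : Set V} {T : Set X} (h1 : ∀ v ∈ T', j v ∈ T) (h2 : (Set.range j)ᶜ ⊆ T)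
    {ξ : SGA6.Kcoh X} (hξ : res j ξ ∈ ksup V T') : ξ ∈ ksup X T := by
  have hV : IsNoetherian V := Sga67.CohBasic.isNoetherian_of_isOpenImmersion j
  have key : ksup V T' ≤ (ksup X T).map (res j) := by
    refine ksup_le fun G hG hGT => ?_
    obtain ⟨C, hC, ⟨eC⟩⟩ := Sga67.CohLoc.exists_extension j _ hG
    refine ⟨KDet.clc X C, clc_mem fun _ => ?_, ?_⟩
    · intro x hx
      by_cases hxj : x ∈ Set.range j
      · obtain ⟨v, rfl⟩ := hxj
        apply h1 v
        apply hGT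
        rw [← CohqB.DevSupport.support_congr eC]
        have h3 : CohB1.support ((restrictFunctor j).obj C) = j ⁻¹' CohB1.support C :=
          Groth.Agent.PerfC.Supp.support_restrict j C
        rw [h3]
        exact hx
      · exact h2 hxj
    · rw [res_clc j hC, clc_congr eC]
  obtain ⟨ξ', hξ', h3⟩ := key hξ
  have h4 : ξ - ξ' ∈ (res j).ker := by
    rw [AddMonoidHom.mem_ker, map_sub, h3, sub_self]
  rw [ker_res j] at h4
  have h5 := add_mem (ksup_mono h2 h4) hξ'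
  rwa [sub_add_cancel] at h5

end Lift

end K879.CapDrop
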