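import Groth.Prelude.Def_KDet
import Groth.Agent.S0037
import Groth.Agent.Ega3B.RpushAbCmp
import Groth.Agent.Krr.H485.PushCoh
import Groth.Agent.FormalA.PullbackQC
import Groth.Agent.IntSh.K879.FibDim

/-!
# Higher direct images of a module whose support is finite over the points of codimension at most one

* `isZero_stalk_Rpush`: `(R^p π_* G)_y = 0` for `p > 0` if `Supp G ∩ π⁻¹ y` is finite.
* `clc_Rpush_mem_coniv`: `[R^p π_* G] ∈ coniv 2`, `p > 0`, if this holds at all `y` with `dim O_{Y,y} ≤ 1`.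
* `push_sub_mem_coniv`: then `[π_* G] - gc [G] ∈ coniv 2`.
-/

set_option autoImplicit false

universe u

open CategoryTheory CategoryTheory.Limits AlgebraicGeometry TopologicalSpace

namespace K879.SuppVan

open Groth.Agent K879.FibDim

theorem le_of_lt_succ {a : WithBot ℕ∞} {n : ℕ} (h : a < ((n + 1 : ℕ) : WithBot ℕ∞)) :
    a ≤ (n : WithBot ℕ∞) := by
  rw [Nat.cast_add, Nat.cast_one] at h
  exact ENat.WithBot.lt_add_one_iff.mp h

variable {X Y : Scheme.{u}} (π : X ⟶ Y) [IsProper π] [IsLocallyNoetherian Y]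
  [HasInjectiveResolutions X.Modules]

theorem subsingleton_stalk_Rpush {G : X.Modules} (hG : Coh.IsCoh G) (y : Y)
    (hy : (CohB1.support G ∩ π.base ⁻¹' {y}).Finite) (p : ℕ) (hp : 0 < p) :
    Subsingleton (((Coh.Rpush π p).obj G).presheaf.stalk y) := by
  have hZ : HasInjectiveResolutions (Sup hG).Modules := Krr.H485.LerayCl.hasInjectiveResolutions _
  let M := (Scheme.Modules.pullback (inc hG)).obj G
  have hM : Coh.IsCoh M := ⟨FormalA.PullbackQC.isQCoh_pullback _ G hG.1,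
    FormalA.PullbackQC.isFT_pullback _ G hG.2⟩
  have hfin : (((inc hG ≫ π).base) ⁻¹' {y}).Finite := by
    refine Set.Finite.of_finite_image (f := (inc hG).base) ?_
      ((inc hG).isEmbedding.injective.injOn)
    refine hy.subset ?_
    rintro _ ⟨z, hz, rfl⟩
    refine ⟨?_, hz⟩
    rw [← range_inc hG]
    exact ⟨z, rfl⟩
  have h1 := Groth.Agent.S0037.result (inc hG ≫ π) y hfin M hM p hp
  obtain ⟨e1⟩ := Ega3B.RpushAbCmp.nonempty_toAb_Rpush_iso (inc hG ≫ π) M p
  obtain ⟨e2⟩ := Krr.H485.LerayCl.nonempty_iso (inc hG) π M p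
  have e3 : (Coh.Rpush π p).obj ((Scheme.Modules.pushforward (inc hG)).obj M) ≅
    (Coh.Rpush π p).obj G := (Coh.Rpush π p).mapIso (FormalA.AnnIdeal.pushPullIso G hG.1 hG.2)
  have e4 : (Coh.toAb ((Coh.Rpush π p).obj G)).obj ≅
      ((Coh.RpushAb (inc hG ≫ π) p).obj (Coh.toAb M)).obj :=
    (sheafToPresheaf _ _).mapIso ((SheafOfModules.toSheaf Y.ringCatSheaf).mapIso (e2 ≪≫ e3).symm ≪≫ e1)
  have e5 := (TopCat.Presheaf.stalkFunctor AddCommGrpCat.{u} y).mapIso e4
  have h2 := h1.of_iso e5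
  exact AddCommGrpCat.subsingleton_of_isZero h2

/-- `[R^p π_* G]` lies in the second step of the coniveau filtration for `p > 0`. -/
theorem clc_Rpush_mem_coniv {G : X.Modules} (hG : Coh.IsCoh G)
    (hfin : ∀ y : Y, ringKrullDim (Y.presheaf.stalk y) ≤ 1 →
      (CohB1.support G ∩ π.base ⁻¹' {y}).Finite) (p : ℕ) (hp : 0 < p) :
    KDet.clc Y ((Coh.Rpush π p).obj G) ∈ KDet.coniv Y 2 := by
  refine AddSubgroup.subset_closure ⟨_, S0036.result π G hG p, fun y hy => ?_, rfl⟩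
  by_contra hc
  have h1 : ringKrullDim (Y.presheaf.stalk y) ≤ 1 := by
    rw [not_le] at hc
    exact le_of_lt_succ hc
  exact hy (subsingleton_stalk_Rpush π hG y (hfin y h1) p hp)

/-- `[π_* G] ≡ π_* [G]` modulo the second step of the coniveau filtration. -/
theorem push_sub_mem_coniv {N : ℕ} {gc : SGA6.Kcoh X →+ SGA6.Kcoh Y} (hgc : KRR.IsPushCoh π N gc)
    {G : X.Modules} (hG : Coh.IsCoh G)
    (hfin : ∀ y : Y, ringKrullDim (Y.presheaf.stalk y) ≤ 1 →
      (CohB1.support G ∩ π.base ⁻¹' {y}).Finite) :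
    KDet.clc Y ((Coh.push π).obj G) - gc (KDet.clc X G) ∈ KDet.coniv Y 2 := by
  have h1 := hgc.2 G hG
  rw [Finset.sum_range_succ'] at h1
  have h2 : KDet.clc Y ((Coh.Rpush π 0).obj G) = KDet.clc Y ((Coh.push π).obj G) :=
    Krr.H485.PushCoh.clSub_coh_iso ((Scheme.Modules.pushforward π).rightDerivedZeroIsoSelf.app G)
  have h3 : gc (KDet.clc X G) = ∑ k ∈ Finset.range N, (-1 : ℤ) ^ (k + 1) •
      KDet.clc Y ((Coh.Rpush π (k + 1)).obj G) + KDet.clc Y ((Coh.push π).obj G) := by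
    refine h1.trans ?_
    rw [pow_zero, one_smul]
    exact congrArg _ h2
  rw [h3, sub_add_cancel_right]
  refine AddSubgroup.neg_mem _ (AddSubgroup.sum_mem _ fun k _ => AddSubgroup.zsmul_mem _ ?_ _)
  exact clc_Rpush_mem_coniv π hG hfin (k + 1) (Nat.succ_pos k)

end K879.SuppVan
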