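import Groth.Agent.S3290
import Groth.Agent.S3784
import Groth.Agent.Krr.H491.Bott
import Groth.Agent.Krr.H488.PicZ
import Groth.Agent.Krr.H482.PullFinal
import Groth.Agent.Ega2.QCohLocal

/-!
# `λ`-operations of the dual of a bundle and the top `γ`-relation

* `lam_dual_mul`: if `f · λ^r e = λ^{r-1} e` (which holds for `e = [E]`, `f = [E^∨]`, `r` the rank) then
  `λ^j f · λ^r e = λ^{r-j} e` for `j ≤ r`.
* `sum_gamma_mul`: `Σ_{k ≤ r} γ^{r-k}(f - r) δ^k = Σ_{j ≤ r} λ^j(f) (δ - 1)^{r-j}`.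
-/

set_option autoImplicit false

universe u v w

open CategoryTheory CategoryTheory.Limits AlgebraicGeometry Finset

namespace K879.DualAlg

open Groth.Agent Groth.Agent.Krr.H482.PullLambda Groth.Agent.Krr.H482.PullFinal

/-- `∏ y · e_j(y⁻¹) = e_{r-j}(y)`. -/
theorem prod_mul_esymm {R : Type*} [CommRing R] {r : ℕ} (y z : Fin r → R) (h : ∀ i, y i * z i = 1)
    (j : ℕ) (hj : j ≤ r) :
    (∏ i, y i) * ∑ t ∈ powersetCard j (univ : Finset (Fin r)), ∏ i ∈ t, z i =
      ∑ t ∈ powersetCard (r - j) (univ : Finset (Fin r)), ∏ i ∈ t, y i := by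
  rw [mul_sum]
  refine sum_nbij' (fun t => tᶜ) (fun t => tᶜ) ?_ ?_ ?_ ?_ ?_
  · intro t ht
    rw [mem_powersetCard] at ht ⊢
    exact ⟨subset_univ _, by rw [card_compl, ht.2, Fintype.card_fin]⟩
  · intro t ht
    rw [mem_powersetCard] at ht ⊢
    refine ⟨subset_univ _, ?_⟩
    rw [card_compl, ht.2, Fintype.card_fin]
    omega
  · intro t _; exact compl_compl t
  · intro t _; exact compl_compl t
  · intro t _
    rw [← prod_mul_prod_compl t y, mul_assoc, mul_comm (∏ i ∈ tᶜ, y i), ← mul_assoc,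
      ← prod_mul_distrib, prod_congr rfl fun i _ => h i, prod_const_one, one_mul]

section Model

variable {X : Scheme.{u}}
  {K : Type v} [CommRing K] [LambdaRing.LambdaOps K] {P : LambdaRing.PosStructure K}
  {φ : SGA6.Kvb X →+ K}

/-- The class of an invertible module is a line element. -/
theorem isLine_cl (hK : KRR.IsModel X K P φ) {L : X.Modules} (hL : FlatMod.IsFinLocFreeOfRank 1 L) :
    P.IsLine (φ (KRR.cl X L)) :=
  ⟨(hK.mem_pos_iff _).2 ⟨1, L, le_rfl, hL, rfl⟩, by rw [hK.aug_cl 1 L hL]; rfl⟩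

/-- The inverse class of an invertible module. -/
theorem exists_inverse_cl (hK : KRR.IsModel X K P φ) {L : X.Modules}
    (hL : FlatMod.IsFinLocFreeOfRank 1 L) :
    ∃ M : X.Modules, FlatMod.IsFinLocFreeOfRank 1 M ∧ φ (KRR.cl X L) * φ (KRR.cl X M) = 1 := by
  have hL' : PicF.IsInvertible L := Groth.Agent.Ega2.QCohLocal.isFinLocFreeOfRank_one_iff.1 hL
  have hM := Groth.Agent.Krr.H488.PicZ.isInvertible_pw hL' (-1)
  have hM' : FlatMod.IsFinLocFreeOfRank 1 (Groth.Agent.Krr.H488.PicZ.pw hL' (-1)) :=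
    Groth.Agent.Ega2.QCohLocal.isFinLocFreeOfRank_one_iff.2 hM
  refine ⟨_, hM', ?_⟩
  obtain ⟨e1⟩ := Groth.Agent.Krr.H488.PicZ.nonempty_pw_one hL'
  obtain ⟨e2⟩ := Groth.Agent.Krr.H488.PicZ.nonempty_pw_mul hL' 1 (-1)
  rw [add_neg_cancel] at e2
  obtain ⟨e3⟩ := Groth.Agent.Krr.H488.PicZ.nonempty_pw_zero hL'
  have h1 := Sga67.LocBasis.isFinLocFree_tensorMod (isFinLocFree_of_rank hL) (isFinLocFree_of_rank hM')
  rw [hK.map_mul _ _ (isFinLocFree_of_rank hL) (isFinLocFree_of_rank hM'), ← hK.map_one]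
  exact congrArg φ (cl_iso (Ega2.Tens.mapTIso e1.symm (Iso.refl _) ≪≫ e2 ≪≫ e3) h1)

/-- `λ^j f · λ^r e = λ^{r-j} e` when `f · λ^r e = λ^{r-1} e`. -/
theorem lam_dual_mul [IsNoetherian X] [ConnectedSpace X] (hK : KRR.IsModel X K P φ) {r : ℕ}
    (hr : 1 ≤ r) {E : X.Modules} (hE : FlatMod.IsFinLocFreeOfRank r E) (f : K)
    (hf : f * LambdaRing.LambdaOps.lam r (φ (KRR.cl X E)) =
      LambdaRing.LambdaOps.lam (r - 1) (φ (KRR.cl X E))) (j : ℕ) (hj : j ≤ r) :
    LambdaRing.LambdaOps.lam j f * LambdaRing.LambdaOps.lam r (φ (KRR.cl X E)) =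
      LambdaRing.LambdaOps.lam (r - j) (φ (KRR.cl X E)) := by
  obtain ⟨X', _, _, h, K', _, _, P', φ', hK', g, hg, hinj, -, L, hL, hs⟩ :=
    Groth.Agent.S3784.result X K P φ hK r E hE
  choose M hM hLM using fun i => exists_inverse_cl hK' (hL i)
  set y : Fin r → K' := fun i => φ' (KRR.cl X' (L i)) with hy
  set z : Fin r → K' := fun i => φ' (KRR.cl X' (M i)) with hz
  have hyl : ∀ i, P'.IsLine (y i) := fun i => isLine_cl hK' (hL i)
  have hzl : ∀ i, P'.IsLine (z i) := fun i => isLine_cl hK' (hM i)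
  have hyz : ∀ i, y i * z i = 1 := hLM
  have hlam : ∀ (i : ℕ) (x : K), g (LambdaRing.LambdaOps.lam i x) = LambdaRing.LambdaOps.lam i (g x) :=
    fun i x => pull_lam hK' hK hg i x
  have hmul : ∀ a b : K, g (a * b) = g a * g b := fun a b => pull_mul hK' hK hg a b
  have hye : ∀ k : ℕ, g (LambdaRing.LambdaOps.lam k (φ (KRR.cl X E))) =
      ∑ t ∈ powersetCard k (univ : Finset (Fin r)), ∏ i ∈ t, y i := fun k => by
    rw [hlam, hs]
    exact Groth.Agent.Krr.H491.Bott.lam_sum_line P' y hyl k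
  have htop : g (LambdaRing.LambdaOps.lam r (φ (KRR.cl X E))) = ∏ i, y i := by
    rw [hye]
    have h1 : powersetCard r (univ : Finset (Fin r)) = {univ} := by
      have := powersetCard_self (univ : Finset (Fin r))
      rwa [card_univ, Fintype.card_fin] at this
    rw [h1, sum_singleton]
  have hprod : (∏ i, y i) * ∏ i, z i = 1 := by
    rw [← prod_mul_distrib, prod_congr rfl fun i _ => hyz i, prod_const_one]
  have h1sum : ∑ t ∈ powersetCard 1 (univ : Finset (Fin r)), ∏ i ∈ t, z i = ∑ i, z i := by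
    have h := Groth.Agent.Krr.H491.Bott.lam_sum_line P' z hzl 1
    rw [LambdaRing.LambdaOps.lam_one] at h
    exact h.symm
  have hgf : g f = ∑ i, z i := by
    have h1 := prod_mul_esymm y z hyz 1 hr
    rw [h1sum, ← hye (r - 1), ← hf, hmul, htop, mul_comm (g f)] at h1
    have h2 : (∏ i, y i) * (∑ i, z i) * ∏ i, z i = (∏ i, y i) * g f * ∏ i, z i :=
      congrArg (· * ∏ i, z i) h1
    calc g f = ((∏ i, y i) * ∏ i, z i) * g f := by rw [hprod, one_mul]
      _ = (∏ i, y i) * g f * ∏ i, z i := by ring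
      _ = (∏ i, y i) * (∑ i, z i) * ∏ i, z i := h2.symm
      _ = ((∏ i, y i) * ∏ i, z i) * ∑ i, z i := by ring
      _ = _ := by rw [hprod, one_mul]
  refine hinj ?_
  rw [hmul, hlam, hgf, Groth.Agent.Krr.H491.Bott.lam_sum_line P' z hzl j, htop, mul_comm,
    prod_mul_esymm y z hyz j hj, hye]

end Model

/-- `Σ_{k ≤ r} γ^{r-k}(f - r) δ^k = Σ_{j ≤ r} λ^j(f) (δ - 1)^{r-j}` for `f` positive of augmentation `r`. -/
theorem sum_gamma_mul {K : Type v} [CommRing K] [LambdaRing.LambdaOps K]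
    (P : LambdaRing.PosStructure K) {f : K} (hf : f ∈ P.pos) {r : ℕ} (hr : P.aug f = r) (δ : K) :
    ∑ k ∈ range (r + 1), LambdaRing.gamma (r - k) (f - (r : K)) * δ ^ k =
      ∑ j ∈ range (r + 1), LambdaRing.LambdaOps.lam j f * (δ - 1) ^ (r - j) := by
  have h1 := Groth.Agent.S3290.result K P f hf
  have hr' : (P.aug f).toNat = r := by rw [hr]; exact Int.toNat_natCast r
  rw [hr'] at h1
  have h2 := congrArg (Polynomial.eval δ) h1
  simp only [Polynomial.eval_finsetSum, Polynomial.eval_mul, Polynomial.eval_C, Polynomial.eval_pow,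
    Polynomial.eval_X, Polynomial.eval_sub, Polynomial.eval_one] at h2
  rw [← h2, ← sum_range_reflect]
  refine sum_congr rfl fun k hk => ?_
  rw [mem_range] at hk
  have h3 : r - (r + 1 - 1 - k) = k := by omega
  have h4 : r + 1 - 1 - k = r - k := by omega
  rw [h3, h4]

end K879.DualAlg
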