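import Groth.Agent.IntSh.K878.PushSup
import Groth.Agent.IntSh.K878.PBPush
import Groth.Agent.CohqA.FBCMain
import Groth.Agent.CohqA.RelCoh2
import Groth.Agent.Flat2D.DimFlat
import Groth.Agent.Sga67.HomInvAsm
import Groth.Agent.RatRes.K97.ModTools
import Groth.Agent.Sga4B.Line
import Groth.Agent.Dcoh.DerSch
import Groth.Agent.Ega1.SuppTensorMod

/-!
# Base change to affine space on `K_•`
-/

set_option autoImplicit false
universe u

open CategoryTheory CategoryTheory.Limits AlgebraicGeometry Opposite TopologicalSpace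

namespace K879.AffBC

open Groth.Agent K878.KSup K878.PBPush

/-- Affine `n`-space. -/
noncomputable abbrev Af (n : ℕ) (X : Scheme.{u}) : Scheme.{u} := 𝔸(ULift.{u} (Fin n); X)

/-- The projection of affine space. -/
noncomputable abbrev pr (n : ℕ) (X : Scheme.{u}) : Af n X ⟶ X := 𝔸(ULift.{u} (Fin n); X) ↘ X

/-- The morphism of affine spaces over a morphism. -/
noncomputable abbrev mp (n : ℕ) {X Y : Scheme.{u}} (f : X ⟶ Y) : Af n X ⟶ Af n Y :=
  AffineSpace.map (ULift.{u} (Fin n)) f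

section

variable (n : ℕ) {X Y : Scheme.{u}}

theorem isPullback (f : X ⟶ Y) : IsPullback (mp n f) (pr n X) (pr n Y) f :=
  AffineSpace.isPullback_map f

theorem pr_mp (f : X ⟶ Y) (z : Af n X) : pr n Y (mp n f z) = f (pr n X z) := by
  have h := (isPullback n f).w
  have h1 := congrArg (fun φ : Af n X ⟶ Y => φ z) h
  exact h1

instance isNoetherian [AlgebraicGeometry.IsNoetherian X] : AlgebraicGeometry.IsNoetherian (Af n X) :=
  (Sga67.HomInvAsm.bijK_affineSpace X n).1

instance flat : Flat (pr n X) := Flat2D.DimFlat.flat_affineSpace _ _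

instance isProper_mp (f : X ⟶ Y) [hf : IsProper f] : IsProper (mp n f) :=
  MorphismProperty.of_isPullback (isPullback n f).flip hf

instance lft_mp (f : X ⟶ Y) [hf : LocallyOfFiniteType f] : LocallyOfFiniteType (mp n f) :=
  MorphismProperty.of_isPullback (isPullback n f).flip hf

theorem mp_comp {Z : Scheme.{u}} (f : X ⟶ Y) (g : Y ⟶ Z) : mp n (f ≫ g) = mp n f ≫ mp n g := by
  exact AffineSpace.map_comp f g

theorem isNormal (h : Pi1.IsNormalScheme Y) : Pi1.IsNormalScheme (Af n Y) :=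
  K97.ModTools.isNormalScheme_of_smooth h (pr n Y)

instance isSeparated [Y.IsSeparated] : (Af n Y).IsSeparated := by
  rw [Scheme.isSeparated_iff, ← terminal.comp_from (pr n Y)]
  infer_instance

theorem coheight_pr_le [IsLocallyNoetherian X] (z : Af n X) :
    Order.coheight (pr n X z) ≤ Order.coheight z := by
  have : IsLocallyNoetherian (Af n X) := LocallyOfFiniteType.isLocallyNoetherian (pr n X)
  rw [Flat2D.DimFlat.coheight_eq_add_fiber (pr n X) z (Flat.stalkMap _ z)]
  exact le_self_add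

theorem pull_ksup [AlgebraicGeometry.IsNoetherian X] {T : Set X} {c : SGA6.Kcoh X} (hc : c ∈ ksup X T) :
    pull (pr n X) c ∈ ksup (Af n X) ((pr n X) ⁻¹' T) := by
  refine map_mem_of (pull (pr n X)) _ (fun G hG hGT => ?_) hc
  rw [pull_clc _ hG]
  refine clc_mem fun _ z hz => ?_
  exact hGT ((Ega1.SuppTensorMod.mem_support_pullback (pr n X) G hG.2 z).1 hz)

theorem pull_coniv [AlgebraicGeometry.IsNoetherian X] {p : ℕ} {c : SGA6.Kcoh X}
    (hc : c ∈ KDet.coniv X p) : pull (pr n X) c ∈ KDet.coniv (Af n X) p := by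
  have h1 : c ∈ ksup X {x | (p : WithBot ℕ∞) ≤ ringKrullDim (X.presheaf.stalk x)} := hc
  have h2 := pull_ksup n h1
  have h3 : KDet.coniv (Af n X) p =
    ksup (Af n X) {x | (p : WithBot ℕ∞) ≤ ringKrullDim ((Af n X).presheaf.stalk x)} := rfl
  rw [h3]
  refine ksup_mono ?_ h2
  intro z hz
  have hz' : (p : WithBot ℕ∞) ≤ ringKrullDim (X.presheaf.stalk (pr n X z)) := hz
  refine le_trans hz' ?_
  rw [ringKrullDim_stalk_eq_coheight, ringKrullDim_stalk_eq_coheight]
  exact_mod_cast coheight_pr_le n z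

/-- Base change of the push-forward to affine space. -/
theorem exists_push [AlgebraicGeometry.IsNoetherian X] [AlgebraicGeometry.IsNoetherian Y] (f : X ⟶ Y)
    [IsProper f] [HasInjectiveResolutions X.Modules] [HasInjectiveResolutions (Af n X).Modules]
    {N : ℕ} {gc : SGA6.Kcoh X →+ SGA6.Kcoh Y} (hgc : KRR.IsPushCoh f N gc) :
    ∃ (N' : ℕ) (gc' : SGA6.Kcoh (Af n X) →+ SGA6.Kcoh (Af n Y)), KRR.IsPushCoh (mp n f) N' gc' ∧
      ∀ ξ, gc' (pull (pr n X) ξ) = pull (pr n Y) (gc ξ) := by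
  obtain ⟨d, hd⟩ := CohqA.RelCoh.exists_bound_Rpush (mp n f)
  have hN' : ∀ F : (Af n X).Modules, Coh.IsCoh F → ∀ q : ℕ, N + d < q →
      IsZero ((Coh.Rpush (mp n f) q).obj F) := fun F hF q hq => hd F hF.1 q (by omega)
  refine ⟨N + d, Krr.H485.PushCoh.pushCoh (mp n f) (N + d) hN',
    Krr.H485.PushCoh.isPushCoh_pushCoh _ _ _, fun ξ => ?_⟩
  have h : (Krr.H485.PushCoh.pushCoh (mp n f) (N + d) hN').comp (pull (pr n X)) =
      (pull (pr n Y)).comp gc := by
    refine Sga67.K0Basic.hom_ext_sub fun G hG => ?_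
    have hG' := FormalA.PullbackQC.isCoh_pullback (pr n X) G hG
    change Krr.H485.PushCoh.pushCoh (mp n f) (N + d) hN' (pull (pr n X) (KDet.clc X G)) =
      pull (pr n Y) (gc (KDet.clc X G))
    rw [pull_clc _ hG]
    refine (Krr.H485.PushCoh.pushCoh_clSub (mp n f) (N + d) hN' hG').trans ?_
    have h1 := hgc.2 G hG
    have h2 : gc (KDet.clc X G) = ∑ i ∈ Finset.range (N + 1),
        (-1 : ℤ) ^ i • KDet.clc Y ((Coh.Rpush f i).obj G) := h1
    rw [h2, map_sum]
    have h3 : ∀ i, KDet.clc (Af n Y) ((Coh.Rpush (mp n f) i).obj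
        ((Scheme.Modules.pullback (pr n X)).obj G)) =
        pull (pr n Y) (KDet.clc Y ((Coh.Rpush f i).obj G)) := by
      intro i
      rw [pull_clc _ (S0036.result f G hG i)]
      obtain ⟨e⟩ := CohqA.FBCMain.nonempty_iso (isPullback n f).flip G hG.1 i
      exact (clc_congr e).symm
    have h4 : N + d + 1 = (N + 1) + d := by omega
    rw [h4, Finset.sum_range_add]
    have h5 : ∑ i ∈ Finset.range d, (-1 : ℤ) ^ (N + 1 + i) • KDet.clc (Af n Y)
        ((Coh.Rpush (mp n f) (N + 1 + i)).obj ((Scheme.Modules.pullback (pr n X)).obj G)) = 0 := by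
      refine Finset.sum_eq_zero fun i _ => ?_
      rw [h3, clc_isZero (hgc.1 G hG _ (by omega)), map_zero, smul_zero]
    refine (congrArg₂ (· + ·) rfl h5).trans ?_
    rw [add_zero]
    refine Finset.sum_congr rfl fun i _ => ?_
    rw [map_zsmul]
    exact congrArg _ (h3 i)
  exact DFunLike.congr_fun h ξ

end

end K879.AffBC
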