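import Groth.Agent.IntSh.K879.AffBC
import Mathlib.AlgebraicGeometry.Geometrically.Irreducible

/-!
# Generic points of the fibres of affine space
-/

set_option autoImplicit false
universe u

open CategoryTheory CategoryTheory.Limits AlgebraicGeometry Opposite TopologicalSpace

namespace K879.AffGen

open Groth.Agent K879.AffBC

variable {n : ℕ} {Y : Scheme.{u}}

/-- `ζ` is generic in its fibre over `Y`. -/
def IsGen (ζ : Af n Y) : Prop := ∀ w : Af n Y, pr n Y w = pr n Y ζ → ζ ⤳ w

theorem exists_gen (y : Y) : ∃ ζ : Af n Y, pr n Y ζ = y ∧ IsGen ζ := by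
  let f := pr n Y
  have : IrreducibleSpace (f.fiber y) := inferInstance
  let η : f.fiber y := genericPoint (f.fiber y)
  have hη : f (f.fiberι y η) = y := by
    have : f.fiberι y η ∈ f ⁻¹' {y} := by
      rw [← f.range_fiberι y]
      exact ⟨η, rfl⟩
    exact this
  refine ⟨f.fiberι y η, hη, ?_⟩
  intro w hw
  have hw' : f w = y := by
    have : f w = f (f.fiberι y η) := hw
    rw [this, hη]
  obtain ⟨v, hv⟩ : ∃ v : f.fiber y, f.fiberι y v = w := by
    subst hw'
    exact ⟨f.asFiber w, f.fiberι_asFiber w⟩
  rw [← hv]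
  exact (genericPoint_specializes v).map (f.fiberι y).continuous

variable [IsLocallyNoetherian Y]

theorem coheight_ne_top (x : Y) : Order.coheight x ≠ ⊤ := by
  have h : ringKrullDim (Y.presheaf.stalk x) ≠ ⊤ := ringKrullDim_ne_top
  rw [ringKrullDim_stalk_eq_coheight] at h
  exact fun h' => h (by rw [h']; rfl)

/-- A point not generic in its fibre has larger coheight than its image. -/
theorem coheight_lt {z : Af n Y} (hz : ¬ IsGen z) :
    Order.coheight (pr n Y z) < Order.coheight z := by
  have : IsLocallyNoetherian (Af n Y) := LocallyOfFiniteType.isLocallyNoetherian (pr n Y)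
  obtain ⟨ζ, hζ, hgen⟩ := exists_gen (n := n) (pr n Y z)
  have h1 : ζ ⤳ z := hgen z hζ.symm
  have hne : ζ ≠ z := by
    rintro rfl
    exact hz hgen
  have h2 : Order.coheight ζ < Order.coheight z := by
    have h3 : z < ζ := lt_iff_le_not_ge.2 ⟨h1, fun h => hne (h1.antisymm h).eq⟩
    exact Order.coheight_strictAnti h3 (lt_of_le_of_ne le_top (coheight_ne_top _))
  refine lt_of_le_of_lt ?_ h2
  rw [← hζ]
  exact coheight_pr_le n ζ

end K879.AffGen
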