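import Groth.Agent.IntSh.K878.SegCong

/-!
# The top Segre operator of `P(K^∨)` when `[K] + [E]` is trivial

If `[K] + [E] = n`, `K` of rank `r + 1`, `E` of rank `s`, then on `P = P(K^∨)`
`p_*((1 - [O(-1)])^(r+s) · p^* ξ) = [det K] · γ^s([E] - s) · ξ`.
-/

set_option autoImplicit false
universe v w u

open CategoryTheory CategoryTheory.Limits AlgebraicGeometry Opposite TopologicalSpace

namespace K879.SegEx

open Groth.Agent Groth.Agent.Krr.H471.ChartVan Groth.Agent.Krr.H482.PullLambda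
  Groth.Agent.Krr.H482.PullFinal K878.CapEx K878.KSup K878.PBPush K878.FilAlg K878.FilPB LambdaRing
open Groth.Agent.Krr.H492.DualK (dl)

/-- The power series computation. -/
theorem series_top {A : Type*} [CommRing A] (x c : ℕ → A) (r s : ℕ)
    (hcs : ∀ j, s < j → c j = 0) (hc0 : c 0 * x 0 = 1)
    (hrel : ∀ j, 1 ≤ j → ∑ i ∈ Finset.range (j + 1), c (j - i) * x i = 0) :
    ∃ B : ℕ → A, (∀ m, m ≤ r → B m = 1) ∧
      (∀ m, r < m → ∑ i ∈ Finset.range (m + 1), B (m - i) * x i = 0) ∧
      B (r + s) = (∑ i ∈ Finset.range (r + 1), x i) * c s := by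
  let Xh : PowerSeries A := PowerSeries.mk x
  let Ch : PowerSeries A := PowerSeries.mk c
  let Rc : ℕ → A := fun m => if m ≤ r then ∑ i ∈ Finset.range (m + 1), x i else 0
  let Rh : PowerSeries A := PowerSeries.mk Rc
  have hsum : ∀ (f g : ℕ → A) (m : ℕ), PowerSeries.coeff m (PowerSeries.mk f * PowerSeries.mk g) =
      ∑ i ∈ Finset.range (m + 1), f (m - i) * g i := by
    intro f g m
    rw [mul_comm, PowerSeries.coeff_mul, Finset.Nat.sum_antidiagonal_eq_sum_range_succ_mk]
    refine Finset.sum_congr rfl fun i _ => ?_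
    rw [PowerSeries.coeff_mk, PowerSeries.coeff_mk, mul_comm]
  have hCX : Ch * Xh = 1 := by
    ext m
    rw [hsum, PowerSeries.coeff_one]
    split_ifs with h
    · subst h
      simpa using hc0
    · exact hrel m (by omega)
  have hmk : ∀ f : PowerSeries A, PowerSeries.mk (fun m => PowerSeries.coeff m f) = f := by
    intro f; ext m; rw [PowerSeries.coeff_mk]
  let Bh : PowerSeries A := Rh * Ch
  have hBX : Bh * Xh = Rh := by
    change Rh * Ch * Xh = Rh
    rw [mul_assoc, hCX, mul_one]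
  refine ⟨fun m => PowerSeries.coeff m Bh, ?_, ?_, ?_⟩
  · intro m hm
    have h1 : PowerSeries.mk (fun _ : ℕ => (1 : A)) * Xh * Ch = PowerSeries.mk (fun _ => (1 : A)) := by
      rw [mul_assoc, mul_comm Xh, hCX, mul_one]
    have h2 : PowerSeries.coeff m (PowerSeries.mk (fun _ : ℕ => (1 : A)) * Xh * Ch) = 1 := by
      rw [h1, PowerSeries.coeff_mk]
    change PowerSeries.coeff m (Rh * Ch) = 1
    rw [← h2, PowerSeries.coeff_mul, PowerSeries.coeff_mul]
    refine Finset.sum_congr rfl fun p hp => ?_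
    rw [Finset.mem_antidiagonal] at hp
    congr 1
    rw [hsum, PowerSeries.coeff_mk]
    change (if p.1 ≤ r then ∑ i ∈ Finset.range (p.1 + 1), x i else 0) = _
    rw [if_pos (by omega)]
    exact Finset.sum_congr rfl fun i _ => (one_mul _).symm
  · intro m hm
    have h1 := congrArg (PowerSeries.coeff m) hBX
    have h2 : PowerSeries.coeff m (PowerSeries.mk (fun m => PowerSeries.coeff m Bh) * Xh) = 0 := by
      rw [hmk, h1, PowerSeries.coeff_mk]
      exact if_neg (by omega)
    rw [hsum] at h2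
    exact h2
  · change PowerSeries.coeff (r + s) (Rh * Ch) = _
    rw [PowerSeries.coeff_mul, Finset.sum_eq_single (r, s)]
    · rw [PowerSeries.coeff_mk, PowerSeries.coeff_mk]
      congr 1
      exact if_pos le_rfl
    · rintro ⟨a, b⟩ hab hne
      rw [Finset.mem_antidiagonal] at hab
      change a + b = r + s at hab
      rw [PowerSeries.coeff_mk, PowerSeries.coeff_mk]
      change (if a ≤ r then _ else 0) * c b = 0
      by_cases ha : a ≤ r
      · have hb : s < b := by
          rcases Nat.lt_or_ge a r with h | h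
          · omega
          · exfalso
            apply hne
            have h1 : a = r := by omega
            have h2 : b = s := by omega
            rw [h1, h2]
        rw [hcs b hb, mul_zero]
      · rw [if_neg ha, zero_mul]
    · intro h
      exact absurd (Finset.mem_antidiagonal.2 (show (r, s).1 + (r, s).2 = r + s from rfl)) h

variable {P S : Scheme.{u}} [AlgebraicGeometry.IsNoetherian S] [AlgebraicGeometry.IsNoetherian P]
  {π : P ⟶ S} [Flat π] [IsProper π]
  {KS : Type v} [CommRing KS] [LambdaOps KS] {PS : PosStructure KS} {φS : SGA6.Kvb S →+ KS}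
  {KP : Type w} [CommRing KP] [LambdaOps KP] {PP : PosStructure KP} {φP : SGA6.Kvb P →+ KP}
  {g : KS →+ KP} {μ : KS →+ SGA6.Kcoh S →+ SGA6.Kcoh S} {r : ℕ} {O1 N : P.Modules} {K : S.Modules}

theorem beta_top (hKP : KRR.IsModel P KP PP φP) (hKS : KRR.IsModel S KS PS φS)
    (hg : KRR.IsPull π φS φP g) (hμ : KDet.IsCap φS μ) (hK : FlatMod.IsFinLocFreeOfRank (r + 1) K)
    {q : (Scheme.Modules.pullback π).obj (dl K) ⟶ O1}
    (B : KRR.IsProjBundle π (dl K) O1 q) (hT : IsTwist r π O1 1) (hN : PicF.IsInvertible N)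
    (hi : Nonempty (CohB1.tensorMod O1 N ≅ Coh.structureModule P))
    (s : ℕ) (c : ℕ → KS) (hc0 : c 0 = 1) (hcs : ∀ j, s < j → c j = 0)
    (hrel : ∀ (j : ℕ), 1 ≤ j → ∑ i ∈ Finset.range (j + 1), c (j - i) *
        gamma i (φS (KRR.cl S K) - ((r + 1 : ℕ) : KS)) = 0) (ξ : SGA6.Kcoh S) :
    beta hKP hT ((1 - φP (KRR.cl P N)) ^ (r + s)) ξ =
      μ ((∑ i ∈ Finset.range (r + 1), gamma i (φS (KRR.cl S K) - ((r + 1 : ℕ) : KS))) * c s) ξ := by
  obtain ⟨i0⟩ := hi
  have hNf : FlatMod.IsFinLocFree N :=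
    isFinLocFree_of_rank (Ega2.QCohLocal.isFinLocFreeOfRank_one_iff.2 hN)
  have hE : FlatMod.IsFinLocFreeOfRank (r + 1) (dl K) := K878.DualPB.isFinLocFreeOfRank_dl hK
  set x : ℕ → KS := fun i => gamma i (φS (KRR.cl S K) - ((r + 1 : ℕ) : KS)) with hxdef
  have hx0 : x 0 = 1 := by rw [hxdef]; simp [gamma]
  obtain ⟨b, hb1, hb2, hb3⟩ := series_top x c r s hcs (by rw [hc0, hx0, mul_one]) hrel
  rw [← hb3]
  have key : ∀ (m : ℕ) (ξ : SGA6.Kcoh S),
      beta hKP hT ((1 - φP (KRR.cl P N)) ^ m) ξ = μ (b m) ξ := by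
    intro m
    induction m using Nat.strong_induction_on with
    | _ m ih =>
      intro ξ
      by_cases hm : m ≤ r
      · rw [K878.SegCong.beta_pow_low hKP hE B hT hNf i0 m hm, hb1 m hm, hμ.one_smul]
      · obtain ⟨j, rfl⟩ : ∃ j, m = r + (j + 1) := ⟨m - r - 1, by omega⟩
        have h1 := K878.SegCong.beta_rel hKP hKS hg hμ hK B hT hN ⟨i0⟩ j ξ
        have h2 := hb2 (r + (j + 1)) (by omega)
        have h3 := congrArg (fun z => μ z ξ) h2
        simp only [map_sum, AddMonoidHom.finsetSum_apply, map_zero, AddMonoidHom.zero_apply] at h3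
        rw [Finset.sum_range_succ'] at h1 h3
        have h4 : ∀ i ∈ Finset.range (r + (j + 1)),
            beta hKP hT ((1 - φP (KRR.cl P N)) ^ (r + (j + 1) - (i + 1)))
              (μ (gamma (i + 1) (φS (KRR.cl S K) - ((r + 1 : ℕ) : KS))) ξ) =
            μ (b (r + (j + 1) - (i + 1)) * x (i + 1)) ξ := by
          intro i hi
          rw [ih _ (by omega), hμ.mul_smul]
        rw [Finset.sum_congr rfl h4] at h1
        have h5 := h1.trans h3.symm
        have h6 := add_left_cancel h5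
        rw [hx0, mul_one, Nat.sub_zero] at h6
        rw [← h6]
        change _ = beta hKP hT _ (μ (x 0) ξ)
        rw [hx0, hμ.one_smul]
  exact key _ _

/-- `Σ_{i ≤ n} γ^i([K] - n) = λ^n [K]`. -/
theorem sum_gamma_eq_lam (PS : PosStructure KS) {f : KS} (hf : f ∈ PS.pos) {n : ℕ} (hn : PS.aug f = n) :
    ∑ i ∈ Finset.range (n + 1), gamma i (f - (n : KS)) = LambdaOps.lam n f := by
  have h1 := K879.DualAlg.sum_gamma_mul PS hf hn (1 : KS)
  simp only [one_pow, mul_one, sub_self] at h1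
  rw [← Finset.sum_range_reflect] at h1
  have h2 : ∀ i ∈ Finset.range (n + 1), gamma (n - (n + 1 - 1 - i)) (f - (n : KS)) =
      gamma i (f - (n : KS)) := by
    intro i hi
    rw [Finset.mem_range] at hi
    congr 1
    omega
  rw [Finset.sum_congr rfl h2] at h1
  rw [h1, Finset.sum_range_succ, Nat.sub_self, pow_zero, mul_one]
  have h3 : ∑ j ∈ Finset.range n, LambdaOps.lam j f * (0 : KS) ^ (n - j) = 0 := by
    refine Finset.sum_eq_zero fun j hj => ?_
    rw [Finset.mem_range] at hj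
    rw [zero_pow (by omega), mul_zero]
  rw [h3, zero_add]

/-- The operator `γ^s([E] - s)` up to the twist by `det K`. -/
theorem beta_gamma (hKP : KRR.IsModel P KP PP φP) (hKS : KRR.IsModel S KS PS φS)
    (hg : KRR.IsPull π φS φP g) (hμ : KDet.IsCap φS μ) (hK : FlatMod.IsFinLocFreeOfRank (r + 1) K)
    {q : (Scheme.Modules.pullback π).obj (dl K) ⟶ O1}
    (B : KRR.IsProjBundle π (dl K) O1 q) (hT : IsTwist r π O1 1) (hN : PicF.IsInvertible N)
    (hi : Nonempty (CohB1.tensorMod O1 N ≅ Coh.structureModule P))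
    {s : ℕ} {E : S.Modules} (hE : FlatMod.IsFinLocFreeOfRank s E)
    (hsum : φS (KRR.cl S K) + φS (KRR.cl S E) = ((r + 1 + s : ℕ) : KS)) (ξ : SGA6.Kcoh S) :
    beta hKP hT ((1 - φP (KRR.cl P N)) ^ (r + s)) ξ =
      μ (LambdaOps.lam (r + 1) (φS (KRR.cl S K)) * gamma s (φS (KRR.cl S E) - (s : KS))) ξ := by
  set x : ℕ → KS := fun i => gamma i (φS (KRR.cl S K) - ((r + 1 : ℕ) : KS)) with hxdef
  set c : ℕ → KS := fun i => gamma i (φS (KRR.cl S E) - (s : KS)) with hcdef
  have hcs : ∀ j, s < j → c j = 0 := fun j hj => K878.DualPB.gamma_zero_of_rank hKS hE hj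
  have hxs : x (r + 1 + 1) = 0 := K878.DualPB.gamma_zero_of_rank hKS hK (Nat.lt_succ_self _)
  have hxs' : ∀ j, r + 1 < j → x j = 0 := fun j hj => K878.DualPB.gamma_zero_of_rank hKS hK hj
  have hser : Groth.Agent.Books.Lambda2.gammaSeries (φS (KRR.cl S E) - (s : KS)) *
      Groth.Agent.Books.Lambda2.gammaSeries (φS (KRR.cl S K) - ((r + 1 : ℕ) : KS)) = 1 := by
    rw [← Groth.Agent.Books.Lambda2.gammaSeries_add]
    have h0 : φS (KRR.cl S E) - (s : KS) + (φS (KRR.cl S K) - ((r + 1 : ℕ) : KS)) = 0 := by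
      have h1 := hsum
      push_cast at h1 ⊢
      linear_combination h1
    rw [h0, Groth.Agent.Books.Lambda2.gammaSeries_zero]
  have hcoef : ∀ m, ∑ i ∈ Finset.range (m + 1), c (m - i) * x i =
      PowerSeries.coeff m (1 : PowerSeries KS) := by
    intro m
    rw [← hser, mul_comm, PowerSeries.coeff_mul, Finset.Nat.sum_antidiagonal_eq_sum_range_succ_mk]
    refine Finset.sum_congr rfl fun i _ => ?_
    rw [Groth.Agent.Books.Lambda2.coeff_gammaSeries, Groth.Agent.Books.Lambda2.coeff_gammaSeries,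
      mul_comm]
  have h1 := beta_top hKP hKS hg hμ hK B hT hN hi s c (by rw [hcdef]; simp [gamma]) hcs
    (fun j hj => by
      change ∑ i ∈ Finset.range (j + 1), c (j - i) * x i = 0
      rw [hcoef, PowerSeries.coeff_one, if_neg (by omega)]) ξ
  rw [h1]
  congr 2
  -- `(Σ_{i ≤ r} x_i) c_s = λ^{r+1} K · c_s`
  have hpos : φS (KRR.cl S K) ∈ PS.pos := (hKS.mem_pos_iff _).mpr ⟨r + 1, K, by omega, hK, rfl⟩
  have h2 := sum_gamma_eq_lam PS hpos (n := r + 1) (hKS.aug_cl (r + 1) K hK)
  have h3 : x (r + 1) * c s = 0 := by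
    have h4 := hcoef (r + 1 + s)
    rw [PowerSeries.coeff_one, if_neg (by omega), Finset.sum_eq_single (r + 1)] at h4
    · have h5 : r + 1 + s - (r + 1) = s := by omega
      rw [h5] at h4
      rw [mul_comm]
      exact h4
    · intro i hi hne
      rw [Finset.mem_range] at hi
      rcases Nat.lt_or_ge i (r + 1) with h | h
      · rw [hcs _ (by omega), zero_mul]
      · rw [hxs' i (by omega), mul_zero]
    · intro h
      exact absurd (Finset.mem_range.2 (by omega)) h
  rw [← h2, Finset.sum_range_succ _ (r + 1), add_mul]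
  change _ = _ + x (r + 1) * c s
  rw [h3, add_zero]

end K879.SegEx
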