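import Groth.Agent.IntSh.K879.GGInd
import Groth.Agent.IntSh.K879.SegEx
import Groth.Agent.IntSh.K878.ChernMain
import Groth.Agent.IntSh.K570.PushComp
import Groth.Agent.Krr.H451.Assemble
import Groth.Agent.Ega2.H287.FinGenFree
import Groth.Agent.ParSh.K958.TwistSupp

/-!
# The top Chern class of a globally generated bundle of rank `d + 1`
-/

set_option autoImplicit false
universe v u

open CategoryTheory CategoryTheory.Limits AlgebraicGeometry Opposite TopologicalSpace

namespace K879.ChernGG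

open Groth.Agent Groth.Agent.Krr.H471.ChartVan Groth.Agent.Krr.H482.PullLambda
  Groth.Agent.Krr.H482.PullFinal K878.CapEx K878.KSup K878.PBPush K878.FilAlg K878.FilPB LambdaRing
  K878.ChernPos K878.FibDelta K879.Eff
open Groth.Agent.Krr.H492.DualK (dl)

section gen

variable {X : Scheme.{u}}

theorem globGen_of_top {M : X.Modules}
    (h : Curv2.IsGloballyGenerated (M.restrict (⊤ : X.Opens).ι)) : Curv2.IsGloballyGenerated M := by
  let j : ((⊤ : X.Opens) : Scheme.{u}) ⟶ X := (⊤ : X.Opens).ι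
  have hj : IsIso j := by
    have h0 : j = (Scheme.topIso X).hom := rfl
    rw [h0]
    infer_instance
  have h1 := VarietyB.GGStalk.isGloballyGenerated_pullback (inv j) _ h
  let e1 : (Scheme.Modules.pullback (inv j)).obj (M.restrict (⊤ : X.Opens).ι) ≅
      (Scheme.Modules.pullback (inv j)).obj ((Scheme.Modules.pullback j).obj M) :=
    (Scheme.Modules.pullback (inv j)).mapIso ((Scheme.Modules.restrictFunctorIsoPullback j).app M)
  let e2 := (Scheme.Modules.pullbackComp (inv j) j).app M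
  let e3 : (Scheme.Modules.pullback (inv j ≫ j)).obj M ≅ (Scheme.Modules.pullback (𝟙 X)).obj M :=
    (Scheme.Modules.pullbackCongr (IsIso.inv_hom_id j)).app M
  let e4 := (Scheme.Modules.pullbackId X).app M
  have he : Epi (e1 ≪≫ e2 ≪≫ e3 ≪≫ e4).hom := inferInstance
  exact K878.LocGen.globGen_of_epi h1 (e1 ≪≫ e2 ≪≫ e3 ≪≫ e4).hom

theorem globGen_dl {m : ℕ} {E : X.Modules} (hE : FlatMod.IsFinLocFree E)
    (t : FlatMod.freeMod X m ⟶ E) [Epi t] (hK : Coh.IsQCoh (kernel t)) :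
    Curv2.IsGloballyGenerated (dl (kernel t)) := by
  obtain ⟨e'⟩ := K878.DualGen.free_dl (E := FlatMod.freeMod X m) (U := ⊤) (m := m)
    ⟨Dcoh.ResFree.restrictFreeMod (⊤ : X.Opens).ι m⟩
  have h2 : FlatMod.IsFinLocFree (FlatMod.freeMod X m) :=
    isFinLocFree_of_rank (isFinLocFreeOfRank_freeMod X m)
  let S : ShortComplex X.Modules := ShortComplex.mk (kernel.ι t) t (kernel.condition t)
  have hS : S.ShortExact := Krr.H487.KerRank.shortExact_kernel t
  have h4 : Epi (Sga2.PnHomAdj.homMapLeft S.f (Coh.structureModule X)) :=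
    Sga2.PnHomExact.epi_homMapLeft hS hK (Ega2.QCohLocal.isQCoh_of_isFinLocFree h2) hE
      (Coh.structureModule X)
  have h5 : Epi ((Scheme.Modules.restrictFunctor (⊤ : X.Opens).ι).map
    (Sga2.PnHomAdj.homMapLeft S.f (Coh.structureModule X))) := inferInstance
  have h6 : Epi (e'.inv ≫ (Scheme.Modules.restrictFunctor (⊤ : X.Opens).ι).map
    (Sga2.PnHomAdj.homMapLeft S.f (Coh.structureModule X))) := epi_comp _ _
  exact globGen_of_top (Sga67.SerreVB.isGloballyGenerated_of_epi_freeMod (e'.inv ≫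
    (Scheme.Modules.restrictFunctor (⊤ : X.Opens).ι).map
    (Sga2.PnHomAdj.homMapLeft S.f (Coh.structureModule X))))

/-- Enlarging the free module. -/
theorem exists_enlarge {n : ℕ} (k : ℕ) {E : X.Modules} (s : FlatMod.freeMod X n ⟶ E) [Epi s] :
    ∃ t : FlatMod.freeMod X (n + k) ⟶ E, Epi t := by
  let j : FlatMod.freeMod X n ⟶ FlatMod.freeMod X (n + k) :=
    Sigma.desc (fun i : Fin n => Sigma.ι (fun _ : Fin (n + k) => Coh.structureModule X) (Fin.castAdd k i))
  let t : FlatMod.freeMod X (n + k) ⟶ E :=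
    Sigma.desc (fun i : Fin (n + k) => Fin.addCases (motive := fun _ => (Coh.structureModule X ⟶ E))
      (fun i => Sigma.ι (fun _ : Fin n => Coh.structureModule X) i ≫ s) (fun _ => 0) i)
  refine ⟨t, ?_⟩
  have h : j ≫ t = s := by
    refine Sigma.hom_ext _ _ fun i => ?_
    simp [j, t]
  have : Epi (j ≫ t) := by rw [h]; infer_instance
  exact epi_of_epi j t

end gen

theorem main {X Y : Scheme.{u}} [AlgebraicGeometry.IsNoetherian X] [AlgebraicGeometry.IsNoetherian Y]
    [IsIntegral Y] [Y.IsSeparated] [ConnectedSpace X]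
    (hYn : Pi1.IsNormalScheme Y) (π : X ⟶ Y) [IsProper π] [HasInjectiveResolutions X.Modules]
    {F : X.Modules} (hF : Coh.IsCoh F) {d : ℕ} (hd : ∀ x ∈ CohB1.support F, dl π x ≤ d)
    {KX : Type v} [CommRing KX] [LambdaOps KX] {PX : PosStructure KX} {φX : SGA6.Kvb X →+ KX}
    (hKX : KRR.IsModel X KX PX φX) {μ : KX →+ SGA6.Kcoh X →+ SGA6.Kcoh X} (hμ : KDet.IsCap φX μ)
    {M : ℕ} {gc : SGA6.Kcoh X →+ SGA6.Kcoh Y} (hgc : KRR.IsPushCoh π M gc)
    {E : X.Modules} (hE : FlatMod.IsFinLocFreeOfRank (d + 1) E)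
    {n : ℕ} (s : FlatMod.freeMod X n ⟶ E) [Epi s] (y : Y) :
    gc (μ (gamma (d + 1) (φX (KRR.cl X E) - ((d + 1 : ℕ) : KX))) (KDet.clc X F)) ∈ Ef Y y := by
  -- enlarge
  obtain ⟨t, ht⟩ := exists_enlarge (d + 2) s
  have hEf := isFinLocFree_of_rank hE
  have hH : FlatMod.IsFinLocFreeOfRank ((n + 1) + (d + 1)) (FlatMod.freeMod X (n + (d + 2))) := by
    have := isFinLocFreeOfRank_freeMod X (n + (d + 2))
    rwa [show n + (d + 2) = (n + 1) + (d + 1) by omega] at this ⊢
  have hK : FlatMod.IsFinLocFreeOfRank (n + 1) (kernel t) :=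
    Krr.H487.KerRank.isFinLocFreeOfRank_kernel t hH hE
  set K := kernel t with hKdef
  have hKf := isFinLocFree_of_rank hK
  have hcl : KRR.cl X (FlatMod.freeMod X (n + (d + 2))) = KRR.cl X K + KRR.cl X E :=
    Groth.Agent.Krr.H496.PullK0.cl_ses (Krr.H487.KerRank.shortExact_kernel t) hKf
      (isFinLocFree_of_rank hH) hEf
  have hsum : φX (KRR.cl X K) + φX (KRR.cl X E) = ((n + 1 + (d + 1) : ℕ) : KX) := by
    rw [← map_add, ← hcl, Krr.H451.Assemble.cl_freeMod hKX]
    congr 1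
    omega
  -- the determinant of `K`
  obtain ⟨D, hDf, hD⟩ := Krr.H495.ExtExist.exists_isExtPow (n + 1) K hKf
  have hD1 : FlatMod.IsFinLocFreeOfRank 1 D := by
    have := Krr.H487.KerRank.isFinLocFreeOfRank_extPow hK hD
    rwa [Nat.choose_self] at this
  have hDi : PicF.IsInvertible D := Ega2.QCohLocal.isFinLocFreeOfRank_one_iff.1 hD1
  obtain ⟨D', hD'i, ⟨ε⟩⟩ := Grpsch.PicGrp.exists_inverse hDi
  have hD'f : FlatMod.IsFinLocFree D' := K878.DeltaMem.flf hD'i
  have hlam : LambdaOps.lam (n + 1) (φX (KRR.cl X K)) = φX (KRR.cl X D) :=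
    hKX.map_lam (n + 1) K D hKf hDf hD
  have hinv : LambdaOps.lam (n + 1) (φX (KRR.cl X K)) * φX (KRR.cl X D') = 1 := by
    rw [hlam, hKX.map_mul D D' hDf hD'f, ← hKX.map_one]
    congr 1
    exact (Groth.Agent.Sga67.KvbRing.c_iso ε.symm Dcoh.ResFree.isFinLocFree_unit).symm
  set F₁ : X.Modules := ((DCoh.tensorBi (X := X)).obj D').obj F with hF₁def
  have hF₁ : Coh.IsCoh F₁ := Sga67.CohBasic.isCoh_of_iso (Ega2.Tens.swap F D')
    (Ega3B.CohTensor.isCoh_tensor hF hD'i)
  have hF₁s : CohB1.support F₁ ⊆ CohB1.support F := fun x hx =>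
    (K958.TwistSupp.support_tensor_subset D' F hx).2
  -- the projective bundle
  have hdK : FlatMod.IsFinLocFreeOfRank (n + 1) (dl K) := K878.DualPB.isFinLocFreeOfRank_dl hK
  obtain ⟨P, p, O1, q, B⟩ := Krr.H490.PBExist.exists_isProjBundle hdK
  have hprop := Krr.H483.PBTop.isProper hdK B
  have hnoeth := Krr.H483.PBTop.isNoetherian hdK B
  have hconn := Krr.H483.PBTop.connectedSpace hdK B
  have hflat := K878.PBUnit.flat hdK B
  have hT := Krr.H471.PBTwist.isTwist_of_isProjBundle hdK B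
  have hO1 := K878.PBUnit.isInvertible_O1 B
  obtain ⟨N, hN, hi⟩ := Grpsch.PicGrp.exists_inverse hO1
  obtain ⟨KP, _, _, PP, φP, hKP⟩ := S3796.result P
  obtain ⟨g, hg⟩ := exists_isPull p hKX.bijective φP
  have h1 : μ (gamma (d + 1) (φX (KRR.cl X E) - ((d + 1 : ℕ) : KX))) (KDet.clc X F) =
      push hT (((1 - opE N) ^ (n + (d + 1)) : AddMonoid.End (SGA6.Kcoh P)) (pull p (KDet.clc X F₁))) := by
    have h2 := K879.SegEx.beta_gamma hKP hKX hg hμ hK B hT hN hi hE hsum (KDet.clc X F₁)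
    have h3 : beta hKP hT ((1 - φP (KRR.cl P N)) ^ (n + (d + 1))) (KDet.clc X F₁) =
        push hT (((1 - opE N) ^ (n + (d + 1)) : AddMonoid.End (SGA6.Kcoh P)) (pull p (KDet.clc X F₁))) := by
      unfold beta
      rw [capK_pow hKP N]
    rw [← h3, h2, hF₁def, ← hμ.map_cl D' F hD'f hF, ← hμ.mul_smul]
    congr 2
    calc gamma (d + 1) (φX (KRR.cl X E) - ((d + 1 : ℕ) : KX))
        = gamma (d + 1) (φX (KRR.cl X E) - ((d + 1 : ℕ) : KX)) *
          (LambdaOps.lam (n + 1) (φX (KRR.cl X K)) * φX (KRR.cl X D')) := by rw [hinv, mul_one]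
      _ = _ := by ring
  have hPi : HasInjectiveResolutions P.Modules := Dcoh.DerSch.hasInjectiveResolutions _
  obtain ⟨b, hb⟩ := CohqA.RelCoh.exists_bound_Rpush (p ≫ π)
  have hgc₂ := Krr.H485.PushCoh.isPushCoh_pushCoh (p ≫ π) b (fun F hF q hq => hb F hF.1 q (by omega))
  have h4 := K570.PushComp.push_comp p π (isPushCoh_push hT) hgc hgc₂
  rw [h1, ← h4, pull_clc p hF₁]
  -- sections of `O(1)`
  have hq : Epi q := B.epi
  have hgg : Curv2.IsGloballyGenerated O1 :=
    K878.LocGen.globGen_of_epi (VarietyB.GGStalk.isGloballyGenerated_pullback p _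
      (globGen_dl hEf t (Ega2.QCohLocal.isQCoh_of_isFinLocFree hKf))) q
  obtain ⟨m, u, hu⟩ := Ega2.H287.FinGenFree.exists_epi_freeMod
    (PerfA.CohSerre.isCoh_of_isFinLocFree (K878.DeltaMem.flf hO1)) hgg
  have hdim : ∀ x ∈ CohB1.support ((Scheme.Modules.pullback p).obj F₁), K878.FibDelta.dl (p ≫ π) x ≤ d + n := by
    intro x hx
    have h5 : p x ∈ CohB1.support F₁ := (Ega1.SuppTensorMod.mem_support_pullback p F₁ hF₁.2 x).1 hx
    rw [dl_comp]
    exact add_le_add (hd _ (hF₁s h5)) (dl_projBundle hdK B x)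
  exact K879.GGInd.gg (n + (d + 1)) hYn (p ≫ π) hgc₂ hO1 hN hi u
    (FormalA.PullbackQC.isCoh_pullback p F₁ hF₁) y
    (fun x hx _ => by have := hdim x hx; omega) (fun x hx _ => by have := hdim x hx; omega)
    (fun x hx _ => by have := hdim x hx; omega)

end K879.ChernGG
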