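import Groth.Agent.IntSh.K879.LatAdd
import Groth.Agent.IntSh.K570.RefCls
import Groth.Agent.Sga67.K0Basic
import Groth.Agent.KZero.K233.LenK0

/-!
# The homomorphism from the Grothendieck group of coherent modules to the Weil divisor class group

`X` an integral Noetherian scheme; `clHom X : K_•(X) → Div(X) / principal` sends the class of the structure
sheaf of a prime divisor to the class of the divisor and kills the modules with support of codimension `≥ 2`.
-/

set_option autoImplicit false
universe u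

open CategoryTheory CategoryTheory.Limits AlgebraicGeometry TopologicalSpace Opposite
open Groth.Agent

namespace K879.ClHom

open K475.GenStalk Groth.Agent.CycB Groth.Agent.CycB.StalkExact K879.LatNu Module

variable {X : Scheme.{u}} [IsIntegral X]

/-- The points of codimension one. -/
abbrev Cod (X : Scheme.{u}) : Type u := {x : X // Order.coheight x = 1}

/-- The specialization map as an additive map. -/
noncomputable def sp (F : X.Modules) (x : X) : F.presheaf.stalk x →+ F.presheaf.stalk (η X) :=
  (F.presheaf.stalkSpecializes (spec x)).hom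

theorem sp_apply (F : X.Modules) (x : X) (m : F.presheaf.stalk x) :
    sp F x m = F.presheaf.stalkSpecializes (spec x) m := rfl

theorem locG (F : X.Modules) (hF : Coh.IsCoh F) (x : X) :
    LocG (X.presheaf.stalk x) X.functionField (sp F x) := by
  letI := CohStalk.specModule F (spec x)
  have h := CohStalk.isLocalizedModule_stalkSpecializes F hF.1 (spec x)
  have hne : ∀ a : X.presheaf.stalk x, a ∉ RingHom.ker (Cyc.specMap x (η X) (spec x)) → a ≠ 0 := by
    rintro a ha rfl
    exact ha (zero_mem _)
  refine ⟨fun r m => ModStalk.stalkSpecializes_smul (spec x) r m, fun v => ?_, fun m hm => ?_⟩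
  · obtain ⟨⟨m, a⟩, hma⟩ := h.surj v
    exact ⟨a.1, hne _ a.2, m, hma⟩
  · obtain ⟨a, ha, ham⟩ := CohStalk.exists_smul_eq_zero F hF.1 (spec x) m hm
    exact ⟨a, hne _ ha, ham⟩

theorem ord_len [IsLocallyNoetherian X] {x : X} (hx : Order.coheight x = 1) (r : X.presheaf.stalk x)
    (hr : r ≠ 0) : Scheme.ord (algebraMap (X.presheaf.stalk x) X.functionField r) x =
      ((Ring.ord (X.presheaf.stalk x) r).toNat : ℤ) :=
  K570.RefCls.ord_spec_eq_length hx hr

section nu

variable [IsLocallyNoetherian X] {ι : Type*} [Fintype ι] [DecidableEq ι]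

/-- The orders of a generic basis. -/
noncomputable def nu (F : X.Modules) (hF : Coh.IsCoh F)
    (b : Basis ι X.functionField (F.presheaf.stalk (η X))) : Cod X → ℤ := fun x =>
  (exists_isNu (o := fun g => Scheme.ord g x.1) (locG F hF x.1) b).choose

theorem isNu (F : X.Modules) (hF : Coh.IsCoh F)
    (b : Basis ι X.functionField (F.presheaf.stalk (η X))) (x : Cod X) :
    IsNu (X.presheaf.stalk x.1) (sp F x.1) (fun g => Scheme.ord g x.1) b (nu F hF b x) :=
  (exists_isNu (o := fun g => Scheme.ord g x.1) (locG F hF x.1) b).choose_spec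

theorem nu_eq (F : X.Modules) (hF : Coh.IsCoh F)
    {b : Basis ι X.functionField (F.presheaf.stalk (η X))} {x : Cod X} {n : ℤ}
    (h : IsNu (X.presheaf.stalk x.1) (sp F x.1) (fun g => Scheme.ord g x.1) b n) : nu F hF b x = n := by
  have h1 : Ring.KrullDimLE 1 (X.presheaf.stalk x.1) :=
    krullDimLE_of_coheight_le x.2.le
  have h2 := CohStalk.finite_stalk F hF x.1
  exact IsNu.unique (locG F hF x.1) (fun a b ha hb => Scheme.ord_mul (X := X) ha hb)
    (fun r hr => ord_len x.2 r hr) (isNu F hF b x) h

end nu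

variable (X)

/-- The principal divisors. -/
def prin [IsLocallyNoetherian X] : AddSubgroup (Cod X → ℤ) where
  carrier := {D | ∃ g : X.functionField, g ≠ 0 ∧ ∀ x : Cod X, D x = Scheme.ord g x.1}
  zero_mem' := ⟨1, one_ne_zero, fun x => by
    have h := Scheme.ord_mul (X := X) (x := x.1) (f := 1) (g := 1) one_ne_zero one_ne_zero
    rw [mul_one] at h
    have h2 : Scheme.ord (1 : X.functionField) x.1 = 0 := by omega
    rw [h2]
    rfl⟩
  add_mem' := by
    rintro D D' ⟨g, hg, h⟩ ⟨g', hg', h'⟩
    exact ⟨g * g', mul_ne_zero hg hg', fun x => by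
      rw [Scheme.ord_mul hg hg', ← h, ← h']
      rfl⟩
  neg_mem' := by
    rintro D ⟨g, hg, h⟩
    refine ⟨g⁻¹, inv_ne_zero hg, fun x => ?_⟩
    have h1 := Scheme.ord_mul (X := X) (x := x.1) hg (inv_ne_zero hg)
    have h2 := Scheme.ord_mul (X := X) (x := x.1) (f := 1) (g := 1) one_ne_zero one_ne_zero
    rw [mul_inv_cancel₀ hg] at h1
    rw [mul_one] at h2
    have h3 := h x
    change -D x = _
    omega

/-- The Weil divisor class group (all integral functions on the points of codimension one). -/
abbrev Cl [IsLocallyNoetherian X] : Type u := (Cod X → ℤ) ⧸ prin X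

variable {X}

theorem finite_stalk_eta [IsLocallyNoetherian X] (F : X.Modules) (hF : Coh.IsCoh F) :
    Module.Finite X.functionField (F.presheaf.stalk (η X)) := CohStalk.finite_stalk F hF (η X)

/-- The class of a coherent module. -/
noncomputable def cl [IsLocallyNoetherian X] (F : X.Modules) (hF : Coh.IsCoh F) : Cl X :=
  haveI := finite_stalk_eta F hF
  QuotientAddGroup.mk (nu F hF (Module.finBasis X.functionField (F.presheaf.stalk (η X))))

/-- Independence of the basis. -/
theorem cl_eq [IsLocallyNoetherian X] {ι : Type*} [Fintype ι] [DecidableEq ι] (F : X.Modules)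
    (hF : Coh.IsCoh F) (b : Basis ι X.functionField (F.presheaf.stalk (η X))) :
    cl F hF = QuotientAddGroup.mk (nu F hF b) := by
  haveI := finite_stalk_eta F hF
  unfold cl
  set b' := Module.finBasis X.functionField (F.presheaf.stalk (η X)) with hb'
  let e := b.indexEquiv b'
  rw [QuotientAddGroup.eq]
  refine ⟨((b.reindex e).det b')⁻¹, inv_ne_zero ((b.reindex e).isUnit_det b').ne_zero, fun x => ?_⟩
  have h0 : (b.reindex e).det b' ≠ 0 := ((b.reindex e).isUnit_det b').ne_zero
  have h1 := (isNu F hF b x).reindex e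
  have h2 := h1.change (fun a b ha hb => Scheme.ord_mul (X := X) ha hb) b'
  have h3 := nu_eq F hF h2
  have h4 := Scheme.ord_mul (X := X) (x := x.1) h0 (inv_ne_zero h0)
  have h5 := Scheme.ord_mul (X := X) (x := x.1) (f := 1) (g := 1) one_ne_zero one_ne_zero
  rw [mul_inv_cancel₀ h0] at h4
  rw [mul_one] at h5
  change - nu F hF b' x + nu F hF b x = _
  rw [h3]
  omega

theorem cl_add [IsLocallyNoetherian X] {S : ShortComplex X.Modules} (hS : S.ShortExact)
    (h₁ : Coh.IsCoh S.X₁) (h₂ : Coh.IsCoh S.X₂) (h₃ : Coh.IsCoh S.X₃) :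
    cl S.X₂ h₂ = cl S.X₁ h₁ + cl S.X₃ h₃ := by
  have j1 := finite_stalk_eta _ h₁
  have j2 := finite_stalk_eta _ h₂
  have j3 := finite_stalk_eta _ h₃
  have hm : Mono S.f := hS.mono_f
  have he : Epi S.g := hS.epi_g
  let b' := Module.finBasis X.functionField (S.X₁.presheaf.stalk (η X))
  let b'' := Module.finBasis X.functionField (S.X₃.presheaf.stalk (η X))
  obtain ⟨b, hb1, hb2⟩ := exists_basis (K := X.functionField) (I := stalkLin S.f (η X))
    (P := stalkLin S.g (η X)) (stalkLin_injective S.f _) (stalkLin_surjective S.g _)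
    (stalkLin_exact S hS.exact _) b' b''
  rw [cl_eq S.X₁ h₁ b', cl_eq S.X₃ h₃ b'', cl_eq S.X₂ h₂ b, ← QuotientAddGroup.mk_add]
  congr 1
  funext x
  refine nu_eq S.X₂ h₂ ?_
  have i1 : Ring.KrullDimLE 1 (X.presheaf.stalk x.1) :=
    krullDimLE_of_coheight_le x.2.le
  have i2 := CohStalk.finite_stalk S.X₁ h₁ x.1
  have i3 := CohStalk.finite_stalk S.X₂ h₂ x.1
  have i4 := CohStalk.finite_stalk S.X₃ h₃ x.1
  refine IsNu.add (locG _ h₁ x.1) (locG _ h₂ x.1) (locG _ h₃ x.1) (stalkLin S.f x.1) (stalkLin S.g x.1)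
    (stalkLin_injective S.f _) (stalkLin_surjective S.g _) (stalkLin_exact S hS.exact _)
    (stalkLin S.f (η X)) (stalkLin S.g (η X)) (stalkLin_surjective S.g _) (stalkLin_exact S hS.exact _)
    (fun m => ?_) (fun m => ?_) (fun a b ha hb => Scheme.ord_mul (X := X) ha hb) hb1 hb2
    (isNu S.X₁ h₁ b' x) (isNu S.X₃ h₃ b'' x)
  · have h := stalkMapₗ_spec S.f (spec x.1) m
    rw [K476.HomSh1.stalkMapₗ_eq, K476.HomSh1.stalkMapₗ_eq] at h
    exact h.symm
  · have h := stalkMapₗ_spec S.g (spec x.1) m
    rw [K476.HomSh1.stalkMapₗ_eq, K476.HomSh1.stalkMapₗ_eq] at h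
    exact h.symm

/-- The class of a module with trivial generic stalk. -/
theorem cl_torsion [IsLocallyNoetherian X] (F : X.Modules) (hF : Coh.IsCoh F)
    (h : genericPoint X ∉ CohB1.support F) :
    cl F hF = QuotientAddGroup.mk (fun x : Cod X => ((K233.LenK0.len F x.1).toNat : ℤ)) := by
  have hs : Subsingleton (F.presheaf.stalk (η X)) := by
    rwa [CohqB.DevSupport.not_mem_support_iff] at h
  let b : Basis (Fin 0) X.functionField (F.presheaf.stalk (η X)) := Basis.empty _
  rw [cl_eq F hF b]
  congr 1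
  funext x
  refine nu_eq F hF ⟨fun i => i.elim0, ?_, ?_⟩
  · rw [Module.Basis.det_apply, Matrix.det_isEmpty]
    exact one_ne_zero
  · have h5 := Scheme.ord_mul (X := X) (x := x.1) (f := 1) (g := 1) one_ne_zero one_ne_zero
    rw [mul_one] at h5
    have h6 : Scheme.ord (1 : X.functionField) x.1 = 0 := by omega
    have h8 : (fun g : X.functionField => Scheme.ord g x.1) 1 = 0 := h6
    rw [Module.Basis.det_apply, Matrix.det_isEmpty, h8, sub_zero]
    congr 2
    have h7 : Set.range (fun i : Fin 0 => (i.elim0 : F.presheaf.stalk x.1)) = ∅ := Set.range_eq_empty _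
    rw [h7, Submodule.span_empty]
    exact ((Submodule.quotEquivOfEqBot _ rfl).length_eq).symm

/-- **The homomorphism to the divisor class group.** -/
theorem exists_hom [IsLocallyNoetherian X] : ∃ Φ : SGA6.Kcoh X →+ Cl X,
    ∀ F : X.Modules, Coh.IsCoh F → genericPoint X ∉ CohB1.support F →
      Φ (KZero.clSub (fun M : X.Modules => Coh.IsCoh M) F) =
        QuotientAddGroup.mk (fun x : Cod X => ((K233.LenK0.len F x.1).toNat : ℤ)) := by
  classical
  refine ⟨Sga67.K0Basic.liftSub (fun M : X.Modules => Coh.IsCoh M)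
    (fun F => if h : Coh.IsCoh F then cl F h else 0) ?_, fun F hF hη => ?_⟩
  · intro S hS h1 h2 h3
    rw [dif_pos h1, dif_pos h2, dif_pos h3]
    exact cl_add hS h1 h2 h3
  · refine (Sga67.K0Basic.liftSub_clSub _ _ hF).trans ?_
    rw [dif_pos hF]
    exact cl_torsion F hF hη

end K879.ClHom
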