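import Groth.Agent.IntSh.K877.Dev
import Groth.Agent.IntSh.K878.KSup
import Groth.Agent.Variety.K432.CurveLift
import Groth.Agent.ZClos.K283.Pull
import Groth.Agent.Krr.H446.ProjFormula
import Groth.Agent.PerfC.FlatExact
import Groth.Agent.PerfC.PullRestrict
import Groth.Agent.SDiv.K475.GenStalk
import Groth.Agent.SDiv.K476.Ref1
import Groth.Agent.Ega2.TensMon
import Groth.Agent.Ega2.QCohLocal
import Groth.Agent.PerfA.CohSerre
import Groth.Agent.CycB.C1Pull
import Groth.Agent.CohqA.IdealMod
import Groth.Agent.Dix.IdealModCartier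

/-!
# Cutting the closure of a point by an effective Cartier divisor not containing it
-/

set_option autoImplicit false
universe u
open CategoryTheory CategoryTheory.Limits AlgebraicGeometry Opposite TopologicalSpace
open AlgebraicGeometry.Scheme.Modules
open Groth.Agent

namespace K879.CutDiv

open K878.KSup K475.GenStalk Groth.Agent.CycB.StalkExact

variable {X Z : Scheme.{u}}

/-- A morphism from a module whose stalks inject into the generic stalk is mono as soon as it is injective
at the generic point. -/
theorem mono_of_generic [IsIntegral Z] {A B : Z.Modules} (t : A ⟶ B) (hA : Inj A)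
    (h : Function.Injective (stalkLin t (η Z))) : Mono t := by
  rw [PerfC.FlatExact.mono_iff_stalkLin]
  intro z
  rw [injective_iff_map_eq_zero]
  intro v hv
  apply hA z
  rw [map_zero]
  apply h
  rw [map_zero]
  have h1 := stalkMapₗ_spec t (spec z) v
  rw [K476.HomSh1.stalkMapₗ_eq, K476.HomSh1.stalkMapₗ_eq] at h1
  have hv' : stalkLin t z v = 0 := hv
  rw [hv', map_zero] at h1
  exact h1

theorem isFinLocFree_of_rank {M : X.Modules} {r : ℕ} (hM : FlatMod.IsFinLocFreeOfRank r M) :
    FlatMod.IsFinLocFree M := fun x => by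
  obtain ⟨U, hx, ⟨e⟩⟩ := hM x
  exact ⟨U, _, hx, ⟨e⟩⟩

theorem inj_of_isInvertible [IsIntegral Z] {A : Z.Modules} (hA : PicF.IsInvertible A) : Inj A := by
  refine inj_of_isTorsionFree
    (Groth.Agent.Ega2.QCohLocal.isQCoh_of_isFinLocFree (isFinLocFree_of_rank
      (Groth.Agent.Ega2.QCohLocal.isFinLocFreeOfRank_one_iff.2 hA))) fun z => ?_
  obtain ⟨t, ht⟩ := Groth.Agent.CycB.ModStalk.exists_isGen hA z
  have := K476.Ref1.free_of_isGen ht
  infer_instance

/-- `I_D → O_X` is bijective on stalks outside `D`. -/
theorem bijective_idealModι (D : X.IdealSheafData) {z : X} (hz : z ∉ (D.support : Set X)) :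
    Function.Bijective (stalkLin (ClSub.idealModι D) z) := by
  have hmono := CohqA.IdealMod.mono_idealModι D
  have hex : (ShortComplex.mk (ClSub.idealModι D) (ClSub.toSubscheme D)
      (kernel.condition _)).Exact := ShortComplex.exact_kernel _
  have h3 := stalkLin_exact _ hex z
  refine ⟨stalkLin_injective (ClSub.idealModι D) z, fun v => ?_⟩
  have hs : z ∉ CohB1.support ((Coh.push D.subschemeι).obj (Coh.structureModule _)) := by
    intro h
    have h2 := Sga67.ClosedPush.support_pushforward D.subschemeι (Coh.structureModule _)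
    have h3 : z ∈ CohB1.support ((Scheme.Modules.pushforward D.subschemeι).obj
      (Coh.structureModule D.subscheme)) := h
    rw [h2] at h3
    obtain ⟨w, -, rfl⟩ := h3
    exact hz (by rw [← Scheme.IdealSheafData.range_subschemeι]; exact ⟨w, rfl⟩)
  have hsub : Subsingleton (((Coh.push D.subschemeι).obj (Coh.structureModule _)).presheaf.stalk z) := by
    rwa [CohqB.DevSupport.not_mem_support_iff] at hs
  exact (h3 v).mp (hsub.elim _ _)

/-- **Cutting.** `[O_Z̄] - [I_D ⊗ O_Z̄]` is the class of a coherent module supported on `Z̄` minus its generic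
point. -/
theorem exists_cut [IsNoetherian X] (z : X) (D : X.IdealSheafData)
    (hD : PicF.IsInvertible (ClSub.idealMod D)) (hz : z ∉ (D.support : Set X)) :
    ∃ W : X.Modules, Coh.IsCoh W ∧ CohB1.support W ⊆ closure {z} ∧ z ∉ CohB1.support W ∧
      KDet.clc X (Cyc.closureStructureSheaf z) -
        KDet.clc X (((DCoh.tensorBi (X := X)).obj (ClSub.idealMod D)).obj (Cyc.closureStructureSheaf z)) =
        KDet.clc X W := by
  let J : X.IdealSheafData := IntMult.ptIdeal z
  let i : J.subscheme ⟶ X := J.subschemeι
  have hZ : IsIntegral J.subscheme := inferInstanceAs (IsIntegral (K432.CurveLift.ptIdeal z).subscheme)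
  have hr : Set.range i = closure {z} := K432.CurveLift.range_ptIdeal z
  have hNZ : IsLocallyNoetherian J.subscheme := LocallyOfFiniteType.isLocallyNoetherian i
  have hη : i (genericPoint J.subscheme) = z := by
    have h1 : IsGenericPoint (i (genericPoint J.subscheme)) (closure {z}) := by
      have h2 := (genericPoint_spec J.subscheme).image i.continuous
      rw [Set.image_univ, hr] at h2
      rwa [isClosed_closure.closure_eq] at h2
    exact h1.eq (isGenericPoint_closure (x := z))
  let A : J.subscheme.Modules := (Scheme.Modules.pullback i).obj (ClSub.idealMod D)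
  have hA : PicF.IsInvertible A := Groth.Agent.CycB.C1Pull.isInvertible_pullback i hD
  let t : A ⟶ Coh.structureModule J.subscheme :=
    (Scheme.Modules.pullback i).map (ClSub.idealModι D) ≫ (Groth.Agent.PerfC.PullRestrict.pullbackUnit i).hom
  have hb : Function.Bijective (stalkLin t (genericPoint J.subscheme)) := by
    have h1 := K283.Pull.bijective_pullback_map i (ClSub.idealModι D) (genericPoint J.subscheme)
      (by rw [hη]; exact bijective_idealModι D hz)
    have h2 : stalkLin t (genericPoint J.subscheme) = _ := stalkLin_comp _ _ _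
    rw [h2]
    exact (stalkLinEquiv (Groth.Agent.PerfC.PullRestrict.pullbackUnit i) _).bijective.comp h1
  have hmono : Mono t := mono_of_generic t (inj_of_isInvertible hA) hb.1
  have hAc : Coh.IsCoh A := Groth.Agent.PerfA.CohSerre.isCoh_of_isFinLocFree
    (isFinLocFree_of_rank
      (Groth.Agent.Ega2.QCohLocal.isFinLocFreeOfRank_one_iff.2 hA))
  have hC : Coh.IsCoh (cokernel t) :=
    Sga67.CohBasic.isCoh_cokernel t hAc.1 (Fdesc.StructMod.isCoh_structureModule _)
  have hS : (ShortComplex.mk t (cokernel.π t) (cokernel.condition t)).ShortExact :=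
    { exact := ShortComplex.exact_of_g_is_cokernel _ (cokernelIsCokernel t) }
  have hS' := IntSh.K877.Dev.shortExact_push i hS
  have hgen : genericPoint J.subscheme ∉ CohB1.support (cokernel t) := by
    rw [CohqB.DevSupport.not_mem_support_iff]
    have h1 := stalkLin_exact _ hS.exact (genericPoint J.subscheme)
    have h2 := stalkLin_surjective (cokernel.π t) (genericPoint J.subscheme)
    refine subsingleton_of_forall_eq 0 fun c => ?_
    obtain ⟨b, rfl⟩ := h2 c
    exact (h1 b).mpr (hb.2 b)
  have hsup : CohB1.support ((Coh.push i).obj (cokernel t)) = i '' CohB1.support (cokernel t) :=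
    Sga67.ClosedPush.support_pushforward i _
  refine ⟨(Coh.push i).obj (cokernel t), IntSh.K877.Dev.isCoh_push i hC, ?_, ?_, ?_⟩
  · rw [hsup, ← hr]
    exact Set.image_subset_range _ _
  · rw [hsup]
    rintro ⟨w, hw, hw'⟩
    rw [← hη] at hw'
    rw [i.isClosedEmbedding.injective hw'] at hw
    exact hgen hw
  · have h1 := clc_shortExact hS' (IntSh.K877.Dev.isCoh_push i hAc)
      (IntSh.K877.Dev.isCoh_push i (Fdesc.StructMod.isCoh_structureModule _)) (IntSh.K877.Dev.isCoh_push i hC)
    have h2 : KDet.clc X (((DCoh.tensorBi (X := X)).obj (ClSub.idealMod D)).obj (Cyc.closureStructureSheaf z)) =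
        KDet.clc X ((Coh.push i).obj A) :=
      clc_congr (Groth.Agent.Krr.H446.ProjFormula.projIso i (Coh.structureModule _) (ClSub.idealMod D) ≪≫
        (Coh.push i).mapIso (Groth.Agent.Ega2.Tens.lunit A))
    have h3 : KDet.clc X (Cyc.closureStructureSheaf z) = KDet.clc X ((Coh.push i).obj A) +
        KDet.clc X ((Coh.push i).obj (cokernel t)) := h1
    rw [h2, h3, add_sub_cancel_left]

end K879.CutDiv
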