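import Groth.Agent.IntSh.K877.Dev
import Groth.Agent.IntSh.K878.KSup
import Groth.Agent.KZero.K233.LenK0

/-!
# Classes of divisors in `K_•`
-/

set_option autoImplicit false
universe u

open CategoryTheory CategoryTheory.Limits AlgebraicGeometry Opposite TopologicalSpace

namespace K879.Dv

open Groth.Agent K878.KSup

variable (Y : Scheme.{u})

/-- The class `Σ D(x) [O_x̄]`. -/
noncomputable def dv : (Y →₀ ℤ) →+ SGA6.Kcoh Y :=
  Finsupp.liftAddHom fun x => zmultiplesHom _ (KDet.clc Y (Cyc.closureStructureSheaf x))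

variable {Y}

theorem dv_single (x : Y) (n : ℤ) :
    dv Y (Finsupp.single x n) = n • KDet.clc Y (Cyc.closureStructureSheaf x) := by
  unfold dv
  rw [Finsupp.liftAddHom_apply_single]
  rfl

theorem dv_eq_sum (D : Y →₀ ℤ) :
    dv Y D = D.sum fun x n => n • KDet.clc Y (Cyc.closureStructureSheaf x) := by
  unfold dv
  rw [Finsupp.liftAddHom_apply]
  rfl

theorem dv_nat (m : Y →₀ ℕ) : dv Y (m.mapRange (fun k : ℕ => (k : ℤ)) Nat.cast_zero) =
    m.sum (fun x n => n • KDet.clc Y (Cyc.closureStructureSheaf x)) := by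
  rw [dv_eq_sum]
  refine (Finsupp.sum_mapRange_index
    (h := fun (x : Y) (n : ℤ) => n • KDet.clc Y (Cyc.closureStructureSheaf x))
    fun x => zero_smul ℤ _).trans ?_
  exact Finsupp.sum_congr fun x _ => natCast_zsmul _ _

theorem coheight_lt [IsLocallyNoetherian Y] {x y : Y} (h : x ⤳ y) (hne : y ≠ x) :
    Order.coheight x < Order.coheight y := by
  have h3 : y < x := lt_iff_le_not_ge.2 ⟨h, fun h' => hne ((h.antisymm h').eq).symm⟩
  refine Order.coheight_strictAnti h3 (lt_of_le_of_ne le_top ?_)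
  have h : ringKrullDim (Y.presheaf.stalk x) ≠ ⊤ := ringKrullDim_ne_top
  rw [ringKrullDim_stalk_eq_coheight] at h
  exact fun h' => h (by rw [h']; rfl)

theorem coheight_mono {x y : Y} (h : x ⤳ y) : Order.coheight x ≤ Order.coheight y :=
  Order.coheight_anti h

theorem mem_coniv_two_iff (x : Y) : ((2 : ℕ) : WithBot ℕ∞) ≤ ringKrullDim (Y.presheaf.stalk x) ↔
    2 ≤ Order.coheight x := by
  rw [ringKrullDim_stalk_eq_coheight]
  have h : (((2 : ℕ) : WithBot ℕ∞)) = (((2 : ℕ) : ℕ∞) : WithBot ℕ∞) := rfl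
  rw [h, WithBot.coe_le_coe]
  rfl

/-- The devissage of an effective torsion class. -/
theorem exists_dv_eff [AlgebraicGeometry.IsNoetherian Y] {G : Y.Modules} (hG : Coh.IsCoh G)
    (hη : ∀ x ∈ CohB1.support G, 1 ≤ Order.coheight x) :
    ∃ D : Y →₀ ℤ, (∀ x, D x ≠ 0 → Order.coheight x = 1 ∧ x ∈ CohB1.support G) ∧ (∀ x, 0 ≤ D x) ∧
      KDet.clc Y G - dv Y D ∈ KDet.coniv Y 2 := by
  obtain ⟨m, h1, h2, h3⟩ := Groth.Agent.IntSh.K877.Dev.exists_devissage {x : Y | 2 ≤ Order.coheight x}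
    {x : Y | 1 ≤ Order.coheight x} (fun x hx y hxy => le_trans hx (coheight_mono hxy))
    (fun x hx hxS y hxy hne => by
      have h4 := coheight_lt hxy hne
      have h5 : (1 : ℕ∞) < Order.coheight y := lt_of_le_of_lt hx h4
      have h6 : (1 : ℕ∞) + 1 ≤ Order.coheight y := Order.add_one_le_of_lt h5
      exact h6) G hG hη
  have hc : ∀ x, m x ≠ 0 → Order.coheight x = 1 := by
    intro x hx
    obtain ⟨h4, h5⟩ := h1 x hx
    refine le_antisymm ?_ h4
    by_contra h6
    exact h5 (Order.add_one_le_of_lt (not_le.1 h6) : (1 : ℕ∞) + 1 ≤ Order.coheight x)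
  refine ⟨m.mapRange (fun k : ℕ => (k : ℤ)) Nat.cast_zero, fun x hx => ?_, fun x => ?_, ?_⟩
  · rw [Finsupp.mapRange_apply, Nat.cast_ne_zero] at hx
    refine ⟨hc x hx, ?_⟩
    by_contra hx'
    have h4 := h3 x (h1 x hx).1 (h1 x hx).2
    have h5 : Module.length (Y.presheaf.stalk x) (G.presheaf.stalk x) = 0 :=
      K233.LenK0.len_eq_zero hx'
    rw [h5] at h4
    exact hx (by exact_mod_cast h4.symm)
  · rw [Finsupp.mapRange_apply]
    exact Nat.cast_nonneg _
  · have h4 : dv Y (m.mapRange (fun k : ℕ => (k : ℤ)) Nat.cast_zero) =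
        m.sum (fun x n => n • Groth.Agent.IntSh.K877.Dev.cl (Cyc.closureStructureSheaf x)) := by
      exact dv_nat m
    rw [h4]
    refine AddSubgroup.closure_mono ?_ h2
    rintro c ⟨F, hF, hFs, rfl⟩
    exact ⟨F, hF, fun x hx => (mem_coniv_two_iff x).2 (hFs x hx), rfl⟩

/-- Every class is a divisor class (with a multiple of the generic point) modulo codimension two. -/
theorem exists_dv [AlgebraicGeometry.IsNoetherian Y] (c : SGA6.Kcoh Y) :
    ∃ D : Y →₀ ℤ, (∀ x, D x ≠ 0 → Order.coheight x ≤ 1) ∧ c - dv Y D ∈ KDet.coniv Y 2 := by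
  let H : AddSubgroup (SGA6.Kcoh Y) :=
    { carrier := {c | ∃ D : Y →₀ ℤ, (∀ x, D x ≠ 0 → Order.coheight x ≤ 1) ∧
        c - dv Y D ∈ KDet.coniv Y 2}
      zero_mem' := ⟨0, fun x hx => absurd rfl hx, by rw [map_zero, sub_zero]; exact zero_mem _⟩
      add_mem' := by
        rintro a b ⟨D, hD, h⟩ ⟨D', hD', h'⟩
        refine ⟨D + D', fun x hx => ?_, ?_⟩
        · by_cases h0 : D x = 0
          · refine hD' x fun h1 => hx ?_
            rw [Finsupp.add_apply, h0, h1, add_zero]
          · exact hD x h0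
        · rw [map_add, add_sub_add_comm]
          exact add_mem h h'
      neg_mem' := by
        rintro a ⟨D, hD, h⟩
        refine ⟨-D, fun x hx => hD x fun h0 => hx (by rw [Finsupp.neg_apply, h0, neg_zero]), ?_⟩
        rw [map_neg, ← neg_sub']
        exact neg_mem h }
  have hH : ∀ c : SGA6.Kcoh Y, c ∈ KDet.coniv Y 2 → c ∈ H := fun c hc =>
    ⟨0, fun x hx => absurd rfl hx, by rw [map_zero, sub_zero]; exact hc⟩
  have h1 : ∀ G : Y.Modules, Coh.IsCoh G → (∀ x ∈ CohB1.support G, 1 ≤ Order.coheight x) →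
      KDet.clc Y G ∈ H := by
    intro G hG hη
    obtain ⟨D, hD, -, h⟩ := exists_dv_eff hG hη
    exact ⟨D, fun x hx => (hD x hx).1.le, h⟩
  have h2 : ∀ G : Y.Modules, Coh.IsCoh G → KDet.clc Y G ∈ H := by
    intro G hG
    obtain ⟨m, h3, h4, -⟩ := Groth.Agent.IntSh.K877.Dev.exists_devissage {x : Y | 1 ≤ Order.coheight x}
      Set.univ (fun x hx y hxy => le_trans hx (coheight_mono hxy))
      (fun x _ hxS y hxy hne => by
        have h4 := coheight_lt hxy hne
        exact Order.one_le_iff_pos.2 (lt_of_le_of_lt bot_le h4)) G hG (Set.subset_univ _)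
    have h5 : Groth.Agent.IntSh.K877.Dev.cl G - m.sum (fun x n => n • Groth.Agent.IntSh.K877.Dev.cl (Cyc.closureStructureSheaf x)) ∈ H := by
      refine (AddSubgroup.closure_le H).2 ?_ h4
      rintro c ⟨F, hF, hFs, rfl⟩
      exact h1 F hF hFs
    have h6 : m.sum (fun x n => n • Groth.Agent.IntSh.K877.Dev.cl (Cyc.closureStructureSheaf x)) ∈ H := by
      refine ⟨m.mapRange (fun k : ℕ => (k : ℤ)) Nat.cast_zero, fun x hx => ?_, ?_⟩
      · rw [Finsupp.mapRange_apply, Nat.cast_ne_zero] at hx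
        have h7 := (h3 x hx).2
        exact le_of_lt (not_le.1 h7)
      · have h4 : dv Y (m.mapRange (fun k : ℕ => (k : ℤ)) Nat.cast_zero) =
            m.sum (fun x n => n • Groth.Agent.IntSh.K877.Dev.cl (Cyc.closureStructureSheaf x)) := by
          exact dv_nat m
        rw [h4, sub_self]
        exact zero_mem _
    have h7 := add_mem h5 h6
    rwa [sub_add_cancel] at h7
  have h3 : H = ⊤ := Sga67.K0Basic.eq_top_of_clSub_mem (P := cohP Y) H fun G hG => h2 G hG
  have h4 : c ∈ H := by rw [h3]; trivial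
  exact h4

/-- The length at the generic point. -/
theorem exists_rk [AlgebraicGeometry.IsNoetherian Y] [IsIntegral Y] :
    ∃ rk : SGA6.Kcoh Y →+ ℤ, (∀ G : Y.Modules, Coh.IsCoh G → genericPoint Y ∉ CohB1.support G →
      rk (KDet.clc Y G) = 0) ∧ rk (KDet.clc Y (Cyc.closureStructureSheaf (genericPoint Y))) ≠ 0 := by
  have hfin : ∀ G : Y.Modules, Coh.IsCoh G → K233.LenK0.len G (genericPoint Y) ≠ ⊤ := by
    intro G hG
    have h1 : Module.Finite (Y.presheaf.stalk (genericPoint Y)) (G.presheaf.stalk (genericPoint Y)) :=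
      CycB.CohStalk.finite_stalk G hG (genericPoint Y)
    have h2 : IsArtinianRing (Y.presheaf.stalk (genericPoint Y)) :=
      inferInstanceAs (IsArtinianRing Y.functionField)
    have h3 : IsFiniteLength (Y.presheaf.stalk (genericPoint Y)) (G.presheaf.stalk (genericPoint Y)) :=
      (IsArtinianRing.tfae _ _ |>.out 0 3).1 h1
    exact Module.length_ne_top_iff.2 h3
  refine ⟨Sga67.K0Basic.liftSub (cohP Y) (fun G => ((K233.LenK0.len G (genericPoint Y)).toNat : ℤ)) ?_,
    ?_, ?_⟩
  · intro S hS h1 h2 h3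
    rw [K233.LenK0.len_shortExact hS, ENat.toNat_add (hfin _ h1) (hfin _ h3)]
    push_cast
    rfl
  · intro G hG hη
    refine (Sga67.K0Basic.liftSub_clSub _ _ hG).trans ?_
    rw [K233.LenK0.len_eq_zero hη]
    rfl
  · have hG : Coh.IsCoh (Cyc.closureStructureSheaf (genericPoint Y)) :=
      CycB.ClosSheaf.isCoh_closureStructureSheaf _
    rw [show _ = _ from Sga67.K0Basic.liftSub_clSub _ _ hG]
    intro h0
    have h1 : (K233.LenK0.len (Cyc.closureStructureSheaf (genericPoint Y)) (genericPoint Y)).toNat = 0 := by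
      exact_mod_cast h0
    rw [ENat.toNat_eq_zero] at h1
    rcases h1 with h1 | h1
    · have h2 : genericPoint Y ∈ CohB1.support (Cyc.closureStructureSheaf (genericPoint Y)) := by
        rw [K233.LenK0.support_closureStructureSheaf]
        exact subset_closure rfl
      exact h2 (Module.length_eq_zero_iff.1 h1)
    · exact hfin _ hG h1

end K879.Dv
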