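import Groth.Agent.IntSh.K879.ClHom
import Groth.Agent.IntSh.K879.Dv
import Groth.Agent.IntSh.K570.DivCls

/-!
# A divisor is principal iff its class lies in the second step of the coniveau filtration
-/

set_option autoImplicit false
universe u

open CategoryTheory CategoryTheory.Limits AlgebraicGeometry TopologicalSpace Opposite
open Groth.Agent

namespace K879.DivCl

open K878.KSup K879.ClHom K879.Dv

variable {X : Scheme.{u}} [AlgebraicGeometry.IsNoetherian X] [IsIntegral X]

omit [AlgebraicGeometry.IsNoetherian X] [IsIntegral X] in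
theorem dim_iff (x : X) : ringKrullDim (X.presheaf.stalk x) = 1 ↔ Order.coheight x = 1 := by
  rw [ringKrullDim_stalk_eq_coheight]
  have h : ((1 : WithBot ℕ∞)) = ((1 : ℕ∞) : WithBot ℕ∞) := rfl
  rw [h, WithBot.coe_inj]

/-- The length of the structure sheaf of a prime divisor at a point of codimension one. -/
theorem len_prime [DecidableEq X] {z : X} (hz : Order.coheight z = 1) (x : Cod X) :
    ((K233.LenK0.len (Cyc.closureStructureSheaf z) x.1).toNat : ℤ) = if z = x.1 then 1 else 0 := by
  split_ifs with h
  · have h1 : K233.LenK0.len (Cyc.closureStructureSheaf x.1) x.1 = 1 := CycB.ClosSheaf.length_stalk_self x.1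
    rw [h, h1]
    rfl
  · have h1 : x.1 ∉ CohB1.support (Cyc.closureStructureSheaf z) := by
      rw [K233.LenK0.support_closureStructureSheaf]
      intro h2
      have h3 : z ⤳ x.1 := specializes_iff_mem_closure.mpr h2
      have h4 := coheight_lt h3 (fun h' => h h'.symm)
      rw [hz, x.2] at h4
      exact lt_irrefl _ h4
    rw [K233.LenK0.len_eq_zero h1]
    rfl

theorem principal_of_mem {D : X →₀ ℤ} (hD : ∀ x, D x ≠ 0 → Order.coheight x = 1)
    (h : dv X D ∈ KDet.coniv X 2) :
    ∃ f : X.functionField, f ≠ 0 ∧ ∀ x : X, Order.coheight x = 1 → D x = Scheme.ord f x := by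
  classical
  obtain ⟨Φ, hΦ⟩ := exists_hom (X := X)
  have hη : ∀ x : X, Order.coheight x = 1 → genericPoint X ∉ CohB1.support (Cyc.closureStructureSheaf x) := by
    intro x hx h
    rw [K233.LenK0.support_closureStructureSheaf] at h
    have h1 : x ⤳ genericPoint X := specializes_iff_mem_closure.mpr h
    have h2 := (h1.antisymm (genericPoint_specializes x)).eq
    have h3 : Order.coheight (genericPoint X) = 0 := by
      rw [Order.coheight_eq_zero]
      intro b _
      exact genericPoint_specializes b
    rw [h2, h3] at hx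
    exact zero_ne_one hx
  have h0 : Φ (dv X D) = 0 := by
    have h1 : Φ (dv X D) ∈ (⊥ : AddSubgroup (Cl X)) := by
      refine map_mem_of Φ ⊥ (fun G hG hGT => ?_) h
      rw [AddSubgroup.mem_bot]
      have h2 : ∀ x ∈ CohB1.support G, ((2 : ℕ) : WithBot ℕ∞) ≤ ringKrullDim (X.presheaf.stalk x) := hGT
      have h3 : genericPoint X ∉ CohB1.support G := by
        intro hx
        have h3 := h2 _ hx
        have h4 : Order.coheight (genericPoint X) = 0 := by
          rw [Order.coheight_eq_zero]
          intro b _
          exact genericPoint_specializes b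
        rw [ringKrullDim_stalk_eq_coheight, h4] at h3
        exact absurd (WithBot.coe_le_coe.1 h3) (by simp)
      refine (hΦ G hG h3).trans ?_
      have h4 : (fun x : Cod X => ((K233.LenK0.len G x.1).toNat : ℤ)) = 0 := by
        funext x
        have h5 : x.1 ∉ CohB1.support G := by
          intro hx
          have h6 := h2 _ hx
          rw [ringKrullDim_stalk_eq_coheight, x.2] at h6
          exact absurd (WithBot.coe_le_coe.1 h6) (by simp)
        rw [K233.LenK0.len_eq_zero h5]
        rfl
      rw [h4]
      rfl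
    exact AddSubgroup.mem_bot.1 h1
  have h1 : Φ (dv X D) = QuotientAddGroup.mk (fun x : Cod X => D x.1) := by
    rw [dv_eq_sum, Finsupp.sum, map_sum]
    have h2 : ∀ x ∈ D.support, Φ (D x • KDet.clc X (Cyc.closureStructureSheaf x)) =
        QuotientAddGroup.mk (fun z : Cod X => if x = z.1 then D x else 0) := by
      intro x hx
      have hx1 := hD x (Finsupp.mem_support_iff.1 hx)
      rw [map_zsmul]
      have h3 := hΦ (Cyc.closureStructureSheaf x) (CycB.ClosSheaf.isCoh_closureStructureSheaf _) (hη x hx1)
      refine (congrArg (fun t => D x • t) h3).trans ?_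
      change _ = QuotientAddGroup.mk _
      refine (QuotientAddGroup.mk_zsmul (prin X) _ _).symm.trans ?_
      congr 1
      funext z
      rw [Pi.smul_apply, len_prime hx1 z]
      split_ifs <;> simp
    rw [Finset.sum_congr rfl h2]
    have h3 : ∑ x ∈ D.support, (QuotientAddGroup.mk (fun z : Cod X => if x = z.1 then D x else 0) : Cl X) =
        QuotientAddGroup.mk (∑ x ∈ D.support, (fun z : Cod X => if x = z.1 then D x else 0)) :=
      (map_sum (QuotientAddGroup.mk' (prin X)) _ _).symm
    rw [h3]
    congr 1
    funext z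
    rw [Finset.sum_apply, Finset.sum_ite_eq']
    split_ifs with h
    · rfl
    · exact (Finsupp.notMem_support_iff.1 h).symm
  rw [h0] at h1
  have h2 := (QuotientAddGroup.eq_zero_iff _).1 h1.symm
  obtain ⟨g, hg, h⟩ := h2
  exact ⟨g, hg, fun x hx => h ⟨x, hx⟩⟩

/-- **A divisor is principal iff its class is in the second step of the coniveau filtration.** -/
theorem dv_mem_iff (hXn : Pi1.IsNormalScheme X) (D : X →₀ ℤ) (hD : ∀ x, D x ≠ 0 → Order.coheight x = 1) :
    dv X D ∈ KDet.coniv X 2 ↔
      ∃ f : X.functionField, f ≠ 0 ∧ ∀ x : X, Order.coheight x = 1 → D x = Scheme.ord f x := by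
  refine ⟨principal_of_mem hD, ?_⟩
  rintro ⟨f, hf, h⟩
  have h1 := K570.DivCls.divHom_mem_of_principal hXn (D := D)
    (fun x hx => (dim_iff x).2 (hD x (Finsupp.mem_support_iff.1 hx))) hf h
  rw [K570.DivCls.divHom_apply] at h1
  rw [dv_eq_sum]
  exact h1

/-- In terms of the order function on the residue field of the generic point. -/
theorem main (hXn : Pi1.IsNormalScheme X)
    (D : X →₀ ℤ) (hD : ∀ x ∈ D.support, ringKrullDim (X.presheaf.stalk x) = 1) :
    dv X D ∈ KDet.coniv X 2 ↔
      ∃ f : X.residueField (genericPoint X), f ≠ 0 ∧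
        ∀ x : X, ringKrullDim (X.presheaf.stalk x) = 1 →
          D x = Cyc.ordAt x (genericPoint X) (genericPoint_specializes x) f := by
  rw [dv_mem_iff hXn D (fun x hx => (dim_iff x).1 (hD x (Finsupp.mem_support_iff.2 hx)))]
  constructor
  · rintro ⟨g, hg, h⟩
    refine ⟨X.residue (genericPoint X) g, fun h0 => hg ?_, fun x hx => ?_⟩
    · exact K475.OrdEta.residue_injective (h0.trans (map_zero _).symm)
    · rw [h x ((dim_iff x).1 hx)]
      exact (K475.OrdEta.ordAt_eq_ord ((dim_iff x).1 hx) g).symm
  · rintro ⟨f, hf, h⟩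
    obtain ⟨g, rfl⟩ := X.residue_surjective (genericPoint X) f
    refine ⟨g, fun h0 => hf (by rw [h0, map_zero]), fun x hx => ?_⟩
    rw [h x ((dim_iff x).2 hx)]
    exact K475.OrdEta.ordAt_eq_ord hx g

end K879.DivCl
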