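import Groth.Agent.IntSh.K879.AffBC
import Groth.Agent.IntSh.K878.PushZero

/-!
# Classes which modulo codimension two are effective and avoid a point
-/

set_option autoImplicit false
universe u

open CategoryTheory CategoryTheory.Limits AlgebraicGeometry Opposite TopologicalSpace

namespace K879.Eff

open Groth.Agent K878.KSup K878.PBPush K878.FibDelta K878.DropPt K878.FibFil

/-- Classes which modulo codimension two are classes of coherent modules not supported at `y`. -/
def Ef (Y : Scheme.{u}) (y : Y) : Set (SGA6.Kcoh Y) :=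
  {c | ∃ G : Y.Modules, Coh.IsCoh G ∧ y ∉ CohB1.support G ∧ c - KDet.clc Y G ∈ KDet.coniv Y 2}

section single

variable {X Y : Scheme.{u}} [AlgebraicGeometry.IsNoetherian X] [AlgebraicGeometry.IsNoetherian Y]
  [HasInjectiveResolutions X.Modules]
  (π : X ⟶ Y) [IsProper π]

/-- Push-forward of a module with finite fibres of the support over `S`. -/
theorem push_fin {N : ℕ} {gc : SGA6.Kcoh X →+ SGA6.Kcoh Y} (hgc : KRR.IsPushCoh π N gc)
    {G : X.Modules} (hG : Coh.IsCoh G) (S : Set Y)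
    (hfin : ∀ z ∈ S, (CohB1.support G ∩ π.base ⁻¹' {z}).Finite) :
    ∃ G' : Y.Modules, Coh.IsCoh G' ∧ CohB1.support G' ⊆ π '' CohB1.support G ∧
      gc (KDet.clc X G) - KDet.clc Y G' ∈ ksup Y Sᶜ := by
  have hcoh : ∀ i, Coh.IsCoh ((Coh.Rpush π i).obj G) := fun i => S0036.result π G hG i
  have hvan : ∀ i, KDet.clc Y ((Coh.Rpush π (i + 1)).obj G) ∈ ksup Y Sᶜ := by
    intro i
    refine clc_mem fun _ z hz hzS => ?_
    exact hz (K879.SuppVan.subsingleton_stalk_Rpush π hG z (hfin z hzS) (i + 1) (Nat.succ_pos i))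
  refine ⟨(Coh.Rpush π 0).obj G, hcoh 0, ?_, ?_⟩
  · intro x hx
    obtain ⟨p, hp, rfl⟩ := K878.PushSup.support_Rpush_subset π hG 0 hx
    exact ⟨p, hp, rfl⟩
  · have h1 := hgc.2 G hG
    rw [Finset.sum_range_succ'] at h1
    have h2 : gc (KDet.clc X G) - KDet.clc Y ((Coh.Rpush π 0).obj G) =
        ∑ i ∈ Finset.range N, (-1 : ℤ) ^ (i + 1) • KDet.clc Y ((Coh.Rpush π (i + 1)).obj G) := by
      rw [sub_eq_iff_eq_add]
      refine Eq.trans h1 ?_
      rw [pow_zero, one_smul]
    rw [h2]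
    exact sum_mem fun i _ => AddSubgroup.zsmul_mem _ (hvan i) _

end single

theorem coniv_eq (Y : Scheme.{u}) (p : ℕ) : KDet.coniv Y p =
    ksup Y {x | (p : WithBot ℕ∞) ≤ ringKrullDim (Y.presheaf.stalk x)} := rfl

section base

variable {X Y : Scheme.{u}} [AlgebraicGeometry.IsNoetherian X] [AlgebraicGeometry.IsNoetherian Y]
  [HasInjectiveResolutions X.Modules] (π : X ⟶ Y) [IsProper π]

/-- The base case: finite fibres of the support over the points of codimension at most one. -/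
theorem base {N : ℕ} {gc : SGA6.Kcoh X →+ SGA6.Kcoh Y} (hgc : KRR.IsPushCoh π N gc)
    {F : X.Modules} (hF : Coh.IsCoh F) (y : Y) (hy : ∀ x ∈ CohB1.support F, π x ≠ y)
    (hd : ∀ x ∈ CohB1.support F, ringKrullDim (Y.presheaf.stalk (π x)) ≤ 1 → dl π x ≤ 0) :
    gc (KDet.clc X F) ∈ Ef Y y := by
  set S : Set Y := {z | ringKrullDim (Y.presheaf.stalk z) ≤ 1} with hS
  have hfin : ∀ z ∈ S, (CohB1.support F ∩ π.base ⁻¹' {z}).Finite := by
    intro z hz
    refine K878.PushZero.finite_fibre (dec π z) (Ega3B.Devissage.isClosed_support hF) ?_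
    rintro x hx rfl
    exact_mod_cast hd x hx hz
  obtain ⟨G', hG', hGs', hGc'⟩ := push_fin π hgc hF S hfin
  refine ⟨G', hG', ?_, ?_⟩
  · intro hy'
    obtain ⟨x, hx, hxy⟩ := hGs' hy'
    exact hy x hx hxy
  · have h3 : Sᶜ ⊆ {x : Y | ((2 : ℕ) : WithBot ℕ∞) ≤ ringKrullDim (Y.presheaf.stalk x)} := by
      intro z hz
      by_contra hc
      exact hz (K879.SuppVan.le_of_lt_succ (n := 1) (not_le.1 hc))
    rw [coniv_eq]
    exact ksup_mono h3 hGc'

end base

end K879.Eff
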