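import Groth.Agent.IntSh.K879.DivCl
import Groth.Agent.IntSh.K879.Dv
import Groth.Agent.IntSh.K879.Eff
import Groth.Agent.IntSh.K879.AffGen
import Groth.Agent.IntSh.K405.GaussDiv
import Groth.Agent.IntSh.K183.PullClos
import Groth.Agent.SDiv.K475.OrdEta
import Groth.Agent.WDiv.K654.PolyMain
import Groth.Agent.SDiv.K475.Ref1Ord

/-!
# Descent of effectivity away from a point along the projection of affine space
-/

set_option autoImplicit false
universe u

open CategoryTheory CategoryTheory.Limits AlgebraicGeometry Opposite TopologicalSpace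
open scoped ZeroObject

namespace K879.EfDesc

open Groth.Agent K878.KSup K878.PBPush K879.AffBC K879.AffGen K879.Eff K879.Dv K879.DivCl

/-- `Ef Y y` is closed under addition. -/
theorem Ef_add {Y : Scheme.{u}} [IsLocallyNoetherian Y] {y : Y} {a b : SGA6.Kcoh Y} (ha : a ∈ Ef Y y) (hb : b ∈ Ef Y y) :
    a + b ∈ Ef Y y := by
  obtain ⟨G, hG, hGy, hGc⟩ := ha
  obtain ⟨G', hG', hGy', hGc'⟩ := hb
  have hS : (ShortComplex.mk (biprod.inl : G ⟶ G ⊞ G') biprod.snd (by simp)).ShortExact :=
    (ShortComplex.Splitting.ofHasBinaryBiproduct G G').shortExact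
  have hcoh : Coh.IsCoh (G ⊞ G') := PerfA.QCohExt.isCoh_ext hS hG hG'
  refine ⟨G ⊞ G', hcoh, ?_, ?_⟩
  · intro hy
    have h1 : CohB1.support (G ⊞ G') ⊆ CohB1.support G ∪ CohB1.support G' :=
      (Groth.Agent.CohqB.DevSupport.support_shortExact hS).subset
    rcases h1 hy with h | h
    · exact hGy h
    · exact hGy' h
  · have h2 : KDet.clc Y (G ⊞ G') = KDet.clc Y G + KDet.clc Y G' := clc_shortExact hS hG hcoh hG'
    rw [h2, add_sub_add_comm]
    exact add_mem hGc hGc'

theorem Ef_zero {Y : Scheme.{u}} (y : Y) : (0 : SGA6.Kcoh Y) ∈ Ef Y y := by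
  refine ⟨_, Sga67.CohBasic.isCoh_of_isZero (isZero_zero Y.Modules), ?_, ?_⟩
  · intro hy
    exact hy (by
      have h1 := Groth.Agent.CohqB.DevSupport.support_eq_empty_of_isZero (isZero_zero Y.Modules)
      by_contra hc
      have h2 : y ∈ CohB1.support (0 : Y.Modules) := hc
      rw [h1] at h2
      exact h2)
  · rw [clc_isZero (isZero_zero Y.Modules), sub_zero]
    exact zero_mem _

theorem Ef_of_sub_mem {Y : Scheme.{u}} {y : Y} {a b : SGA6.Kcoh Y} (hb : b ∈ Ef Y y)
    (h : a - b ∈ KDet.coniv Y 2) : a ∈ Ef Y y := by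
  obtain ⟨G, hG, hGy, hGc⟩ := hb
  refine ⟨G, hG, hGy, ?_⟩
  have := add_mem h hGc
  rwa [sub_add_sub_cancel] at this

/-- Effective divisors avoiding `y`. -/
theorem dv_mem_Ef {Y : Scheme.{u}} [AlgebraicGeometry.IsNoetherian Y] {y : Y} (D : Y →₀ ℤ)
    (h0 : ∀ x, 0 ≤ D x) (hy : ∀ x, x ⤳ y → D x = 0) : dv Y D ∈ Ef Y y := by
  classical
  induction D using Finsupp.induction with
  | zero => rw [map_zero]; exact Ef_zero y
  | single_add x n D hx hn ih =>
    have hDx : D x = 0 := Finsupp.notMem_support_iff.1 hx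
    have hn0 : 0 ≤ n := by
      have := h0 x
      rwa [Finsupp.add_apply, Finsupp.single_eq_same, hDx, add_zero] at this
    have hxy : ¬ x ⤳ y := by
      intro h
      have := hy x h
      rw [Finsupp.add_apply, Finsupp.single_eq_same, hDx, add_zero] at this
      exact hn this
    have hD : ∀ z, 0 ≤ D z ∧ (z ⤳ y → D z = 0) := by
      intro z
      by_cases hz : z = x
      · rw [hz, hDx]; exact ⟨le_rfl, fun _ => rfl⟩
      · have h1 := h0 z
        have h2 := hy z
        rw [Finsupp.add_apply, Finsupp.single_eq_of_ne hz, zero_add] at h1 h2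
        exact ⟨h1, h2⟩
    rw [map_add]
    refine Ef_add ?_ (ih (fun z => (hD z).1) fun z => (hD z).2)
    rw [dv_single]
    obtain ⟨k, rfl⟩ := Int.eq_ofNat_of_zero_le hn0
    have h3 : ∀ k : ℕ, ((k : ℤ) • KDet.clc Y (Cyc.closureStructureSheaf x)) ∈ Ef Y y := by
      intro k
      induction k with
      | zero => rw [Nat.cast_zero, zero_smul]; exact Ef_zero y
      | succ k ih =>
        rw [Nat.cast_succ, add_smul, one_smul]
        refine Ef_add ih ⟨_, CycB.ClosSheaf.isCoh_closureStructureSheaf x, ?_, ?_⟩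
        · rw [K233.LenK0.support_closureStructureSheaf]
          exact fun h => hxy (specializes_iff_mem_closure.2 h)
        · rw [sub_self]; exact zero_mem _
    exact h3 k

variable {n : ℕ} {Y : Scheme.{u}} [AlgebraicGeometry.IsNoetherian Y] [IsIntegral Y]

/-- The generic point of the fibre. -/
noncomputable def gp (n : ℕ) (y : Y) : Af n Y := (exists_gen (n := n) y).choose

omit [AlgebraicGeometry.IsNoetherian Y] [IsIntegral Y] in
theorem pr_gp (y : Y) : pr n Y (gp n y) = y := (exists_gen (n := n) y).choose_spec.1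

omit [AlgebraicGeometry.IsNoetherian Y] [IsIntegral Y] in
theorem isGen_gp (y : Y) : IsGen (gp n y) := (exists_gen (n := n) y).choose_spec.2

omit [AlgebraicGeometry.IsNoetherian Y] [IsIntegral Y] in
theorem gp_injective : Function.Injective (gp n : Y → Af n Y) := fun a b h => by
  rw [← pr_gp (n := n) a, ← pr_gp (n := n) b, h]

omit [AlgebraicGeometry.IsNoetherian Y] [IsIntegral Y] in
theorem gp_eq {z : Af n Y} (hz : IsGen z) : gp n (pr n Y z) = z :=
  ((isGen_gp (n := n) _ z (pr_gp _).symm).antisymm (hz _ (pr_gp _))).eq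

omit [IsIntegral Y] in
theorem pull_dv (D : Y →₀ ℤ) : pull (pr n Y) (dv Y D) = dv (Af n Y) (D.mapDomain (gp n)) := by
  have h : (pull (pr n Y)).comp (dv Y) =
      (dv (Af n Y)).comp (Finsupp.mapDomain.addMonoidHom (gp n)) := by
    refine Finsupp.addHom_ext fun x k => ?_
    change pull (pr n Y) (dv Y (Finsupp.single x k)) =
      dv (Af n Y) (Finsupp.mapDomain (gp n) (Finsupp.single x k))
    rw [Finsupp.mapDomain_single, dv_single, dv_single, map_zsmul,
      pull_clc _ (CycB.ClosSheaf.isCoh_closureStructureSheaf x)]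
    obtain ⟨e⟩ := K183.PullClos.nonempty_pullback_closure
      (K654.PolyMap.isPoly_affineSpace (ULift.{u} (Fin n)) Y) x (gp n x) (pr_gp x)
      (fun z hz => isGen_gp (n := n) x z (by rw [pr_gp]; exact hz))
    exact congrArg (k • ·) (clc_congr e)
  exact DFunLike.congr_fun h D

theorem desc [Y.IsSeparated] (hYn : Pi1.IsNormalScheme Y) {c : SGA6.Kcoh Y} (ζ : Af n Y)
    (h : pull (pr n Y) c ∈ Ef (Af n Y) ζ) : c ∈ Ef Y (pr n Y ζ) := by
  classical
  have hpoly := K654.PolyMap.isPoly_affineSpace (ULift.{u} (Fin n)) Y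
  obtain ⟨D, hD, hDc⟩ := exists_dv c
  obtain ⟨G, hG, hGζ, hGc⟩ := h
  have hη : genericPoint (Af n Y) ∉ CohB1.support G := by
    intro hη
    exact hGζ ((genericPoint_specializes ζ).mem_closed (Ega3B.Devissage.isClosed_support hG) hη)
  have hη1 : ∀ x ∈ CohB1.support G, 1 ≤ Order.coheight x := by
    intro x hx
    rw [Order.one_le_iff_pos, pos_iff_ne_zero]
    intro h0
    rw [Order.coheight_eq_zero] at h0
    have h7 : genericPoint (Af n Y) ⤳ x := genericPoint_specializes _
    have h8 : x ⤳ genericPoint (Af n Y) := h0 h7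
    rw [(h8.antisymm h7).eq] at hx
    exact hη hx
  obtain ⟨m, hm, hm0, hmc⟩ := exists_dv_eff hG hη1
  have hmζ : ∀ x, x ⤳ ζ → m x = 0 := by
    intro x hx
    by_contra hne
    exact hGζ (hx.mem_closed (Ega3B.Devissage.isClosed_support hG) (hm x hne).2)
  -- the difference
  have h1 : dv (Af n Y) (D.mapDomain (gp n) - m) ∈ KDet.coniv (Af n Y) 2 := by
    have h2 := pull_coniv n hDc
    rw [map_sub, pull_dv] at h2
    have h3 : dv (Af n Y) (D.mapDomain (gp n) - m) =
        -(pull (pr n Y) c - dv (Af n Y) (D.mapDomain (gp n))) +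
          ((pull (pr n Y) c - KDet.clc _ G) + (KDet.clc _ G - dv (Af n Y) m)) := by
      rw [map_sub]; abel
    rw [h3]
    exact add_mem (neg_mem h2) (add_mem hGc hmc)
  have hgpη : gp n (genericPoint Y) = genericPoint (Af n Y) := by
    have h4 := gp_eq (n := n) (Y := Y) (z := genericPoint (Af n Y)) (fun w _ => genericPoint_specializes w)
    rwa [hpoly.generic] at h4
  have hval : ∀ y : Y, (D.mapDomain (gp n)) (gp n y) = D y := fun y =>
    Finsupp.mapDomain_apply gp_injective D y
  have hval0 : ∀ z : Af n Y, ¬ IsGen z → (D.mapDomain (gp n)) z = 0 := by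
    intro z hz
    refine Finsupp.mapDomain_of_notMem_range D z ?_
    rintro ⟨y, rfl⟩
    exact hz (isGen_gp y)
  -- the rank vanishes
  have hDη : D (genericPoint Y) = 0 := by
    obtain ⟨rk, hrk0, hrk1⟩ := exists_rk (Y := Af n Y)
    have h5 : ∀ c ∈ KDet.coniv (Af n Y) 2, rk c = 0 := by
      intro c hc
      have h6 : rk c ∈ (⊥ : AddSubgroup ℤ) := map_mem_of rk ⊥ (fun G hG hGT => by
        rw [AddSubgroup.mem_bot]
        refine hrk0 G hG fun h => ?_
        have h7 := (mem_coniv_two_iff _).1 (hGT h)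
        rw [K654.PolyMap.coheight_generic] at h7
        exact absurd h7 (by decide)) hc
      exact AddSubgroup.mem_bot.1 h6
    have h6 : ∀ E : Af n Y →₀ ℤ, rk (dv (Af n Y) E) = E (genericPoint (Af n Y)) *
        rk (KDet.clc _ (Cyc.closureStructureSheaf (genericPoint (Af n Y)))) := by
      intro E
      have h7 : rk.comp (dv (Af n Y)) =
          (AddMonoidHom.mulRight (rk (KDet.clc _ (Cyc.closureStructureSheaf
            (genericPoint (Af n Y)))))).comp (Finsupp.applyAddHom (genericPoint (Af n Y))) := by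
        refine Finsupp.addHom_ext fun x k => ?_
        change rk (dv (Af n Y) (Finsupp.single x k)) = (Finsupp.single x k) (genericPoint (Af n Y)) * _
        rw [dv_single, map_zsmul, smul_eq_mul]
        by_cases hx : x = genericPoint (Af n Y)
        · rw [hx, Finsupp.single_eq_same]
        · rw [Finsupp.single_eq_of_ne (Ne.symm hx), zero_mul,
            hrk0 _ (CycB.ClosSheaf.isCoh_closureStructureSheaf x) ?_, mul_zero]
          rw [K233.LenK0.support_closureStructureSheaf]
          intro h8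
          have h9 : x ⤳ genericPoint (Af n Y) := specializes_iff_mem_closure.2 h8
          exact hx (h9.antisymm (genericPoint_specializes x)).eq
      exact DFunLike.congr_fun h7 E
    have h7 := h5 _ h1
    rw [h6, mul_eq_zero, or_iff_left hrk1, Finsupp.sub_apply, ← hgpη, hval] at h7
    have h8 : m (gp n (genericPoint Y)) = 0 := by
      rw [hgpη]
      by_contra hne
      exact hη (hm _ hne).2
    rwa [h8, sub_zero] at h7
  have hD1 : ∀ x, D x ≠ 0 → Order.coheight x = 1 := by
    intro x hx
    refine le_antisymm (hD x hx) ?_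
    rw [Order.one_le_iff_pos, pos_iff_ne_zero]
    intro h0
    rw [Order.coheight_eq_zero] at h0
    have h7 : genericPoint Y ⤳ x := genericPoint_specializes _
    have h8 : x ⤳ genericPoint Y := h0 h7
    rw [(h8.antisymm h7).eq] at hx
    exact hx hDη
  -- values of the pulled back divisor
  have hpull : ∀ z : Af n Y, Order.coheight z = 1 → (D.mapDomain (gp n)) z = D (pr n Y z) := by
    intro z hz
    by_cases hg : IsGen z
    · conv_lhs => rw [← gp_eq hg]
      exact hval _
    · rw [hval0 z hg]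
      by_contra hne
      have h2 := K879.AffGen.coheight_lt hg
      rw [hz, hD1 _ (Ne.symm hne)] at h2
      exact lt_irrefl _ h2
  have hco : ∀ x, (D.mapDomain (gp n) - m) x ≠ 0 → Order.coheight x = 1 := by
    intro x hx
    by_cases hmx : m x = 0
    · rw [Finsupp.sub_apply, hmx, sub_zero] at hx
      have hg : IsGen x := by
        by_contra hg
        exact hx (hval0 x hg)
      have hx' := hx
      rw [← gp_eq hg, hval] at hx'
      have h2 := hD1 _ hx'
      have hiso := hpoly.exists_point (pr n Y x) h2 ?_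
      · obtain ⟨w, hw, hw1⟩ := hiso
        have h3 : x ⤳ w := hg w hw
        refine le_antisymm ((coheight_mono h3).trans hw1.le) ?_
        rw [← h2]
        exact coheight_pr_le n x
      · exact K475.Ref1Ord.isDVR_of_coheight hYn h2
    · exact (hm x hmx).1
  obtain ⟨g, hg0, hg⟩ := (dv_mem_iff (isNormal n hYn) _ hco).1 h1
  have hg' : ∀ z : Af n Y, Order.coheight z = 1 → D (pr n Y z) + Scheme.ord g⁻¹ z = m z := by
    intro z hz
    have h2 := hg z hz
    rw [Finsupp.sub_apply, hpull z hz] at h2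
    have h3 : Scheme.ord g⁻¹ z = - Scheme.ord g z := K654.OrdAff.ord_inv hg0 z
    rw [h3]
    omega
  obtain ⟨f, hf0, hf1, hf2⟩ := K405.GaussDiv.exists_divisor_descent (σ := ULift.{u} (Fin n)) hYn
    (fun x => D x) (fun x hx => by
      by_contra h; exact hx (hD1 x h)) g⁻¹ (inv_ne_zero hg0)
    (fun z hz => by rw [hg' z hz]; exact hm0 z) (pr n Y ζ) ζ rfl
    (fun z hz hzζ => by rw [hg' z hz]; exact hmζ z hzζ)
  -- the divisor of `f`
  have hfin : {x : Y | Scheme.ord f x ≠ 0}.Finite := K654.PolyMap.finite_ord f hf0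
  let Df : Y →₀ ℤ := Finsupp.ofSupportFinite (fun x => Scheme.ord f x) hfin
  have hDf : ∀ x, Df x = Scheme.ord f x := fun x => rfl
  have hDf1 : ∀ x, Df x ≠ 0 → Order.coheight x = 1 := by
    intro x hx
    by_contra hx1
    exact hx (Scheme.ord_eq_zero_of_coheight_neq_one hx1 f)
  have hDfm : dv Y Df ∈ KDet.coniv Y 2 := (dv_mem_iff hYn Df hDf1).2 ⟨f, hf0, fun x _ => rfl⟩
  have hE : dv Y (D + Df) ∈ Ef Y (pr n Y ζ) := by
    refine dv_mem_Ef _ (fun x => ?_) fun x hx => ?_
    · by_cases hx : Order.coheight x = 1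
      · rw [Finsupp.add_apply, hDf]; exact hf1 x hx
      · have h2 : D x = 0 := by by_contra h; exact hx (hD1 x h)
        have h3 : Df x = 0 := by by_contra h; exact hx (hDf1 x h)
        rw [Finsupp.add_apply, h2, h3, add_zero]
    · by_cases hx1 : Order.coheight x = 1
      · rw [Finsupp.add_apply, hDf]; exact hf2 x hx1 hx
      · have h2 : D x = 0 := by by_contra h; exact hx1 (hD1 x h)
        have h3 : Df x = 0 := by by_contra h; exact hx1 (hDf1 x h)
        rw [Finsupp.add_apply, h2, h3, add_zero]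
  refine Ef_of_sub_mem hE ?_
  rw [map_add, ← sub_sub]
  exact sub_mem hDc hDfm

end K879.EfDesc
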