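import Groth.Agent.IntSh.K879.EffSec
import Groth.Agent.IntSh.K879.CutDiv
import Groth.Agent.SDiv.K476.DivSec
import Groth.Agent.SDiv.K476.RegRef
import Groth.Agent.VarietyB.GGStalk
import Groth.Agent.Ega2.H287.FinGenFree

/-!
# Classes of rank one reflexive modules with a global section generating the stalk at a point

`effAt y` is a submonoid of `Ref¹(Y)`; the determinant of a coherent module not supported at `y` lies in it.
-/

set_option autoImplicit false
set_option backward.isDefEq.respectTransparency false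
universe u
open CategoryTheory CategoryTheory.Limits AlgebraicGeometry Opposite TopologicalSpace
open AlgebraicGeometry.Scheme.Modules RefHull
open Groth.Agent Groth.Agent.Sga67 Groth.Agent.Sga67.CohBasic

namespace K879.EffPt

open K878.KSup K878.DetLoc K476.HomSh1 K476.HomSh3 K476.HomSh4 Groth.Agent.CycB.ModStalk K475.GenStalk
open K476.TensStalk K476.Ref1 K879.EffSec

variable {Y : Scheme.{u}}

/-- Some global section generates the stalk at `y`. -/
def HasGen (y : Y) (L : Y.Modules) : Prop :=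
  ∃ m : Γ(L, ⊤), IsGen L y (L.presheaf.germ ⊤ y trivial m)

theorem HasGen.of_iso {y : Y} {L M : Y.Modules} (h : HasGen y L) (e : L ≅ M) : HasGen y M := by
  obtain ⟨m, hm⟩ := h
  refine ⟨e.hom.app ⊤ m, ?_⟩
  have h1 : M.presheaf.germ ⊤ y trivial (e.hom.app ⊤ m) =
      stalkMapₗ e.hom y (L.presheaf.germ ⊤ y trivial m) := (stalkMapₗ_germ _ _ _ _).symm
  rw [h1]
  exact isGen_map hm e.hom (bijective_stalkMapₗ_of_isIso e.hom _)

theorem hasGen_structure (y : Y) : HasGen y (Coh.structureModule Y) := by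
  refine ⟨((1 : Y.ringCatSheaf.obj.obj (op ⊤)) : (Coh.structureModule Y).val.obj (op ⊤)), ?_⟩
  have h1 : (Coh.structureModule Y).presheaf.germ ⊤ y trivial
      ((1 : Y.ringCatSheaf.obj.obj (op ⊤)) : (Coh.structureModule Y).val.obj (op ⊤)) = unitGerm y :=
    germ_one (X := Y) (U := ⊤) (x := y) trivial
  exact (congrArg (IsGen (Coh.structureModule Y) y) h1).mpr (isGen_unitGerm y)

theorem HasGen.tensor [IsIntegral Y] [IsLocallyNoetherian Y] {y : Y} {L M : Y.Modules} (hL : Coh.IsCoh L)
    (hM : Coh.IsCoh M) (h : HasGen y L) (h' : HasGen y M) : HasGen y (RefPow.refTensor L M) := by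
  obtain ⟨m, hm⟩ := h
  obtain ⟨n, hn⟩ := h'
  have hgen := isGen_bidual (isCoh_tensorMod hL hM) (isGen_stmul hm hn)
  refine ⟨(bidualMap (CohB1.tensorMod L M)).app ⊤ (SecTwist.tmul L M ⊤ m n), ?_⟩
  have h1 : (ddual (CohB1.tensorMod L M)).presheaf.germ ⊤ y trivial
      ((bidualMap (CohB1.tensorMod L M)).app ⊤ (SecTwist.tmul L M ⊤ m n)) =
      stalkMapₗ (bidualMap (CohB1.tensorMod L M)) y
        ((CohB1.tensorMod L M).presheaf.germ ⊤ y trivial (SecTwist.tmul L M ⊤ m n)) :=
    (stalkMapₗ_germ _ _ _ _).symm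
  change IsGen (ddual (CohB1.tensorMod L M)) y ((ddual (CohB1.tensorMod L M)).presheaf.germ ⊤ y trivial
      ((bidualMap (CohB1.tensorMod L M)).app ⊤ (SecTwist.tmul L M ⊤ m n)))
  rw [h1, ← stmul_germ]
  exact hgen

/-- The submonoid of the classes of modules with a section generating the stalk at `y`. -/
def effAt [IsIntegral Y] [IsLocallyNoetherian Y] [RefFun.Law Y] (y : Y) :
    AddSubmonoid (Additive (RefFun.Ref1Set Y)) where
  carrier := {c | ∀ (L : Y.Modules) (hL : IsRef1 L), c = Additive.ofMul (RefFun.cls L hL) → HasGen y L}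
  zero_mem' := fun L hL h => by
    have h1 : (1 : RefFun.Ref1Set Y) = RefFun.cls L hL := congrArg Additive.toMul h
    obtain ⟨e⟩ := (RefFun.cls_eq_one_iff hL).mp h1.symm
    exact (hasGen_structure y).of_iso e.symm
  add_mem' := fun {a b} ha hb L hL h => by
    obtain ⟨A, hA, hA'⟩ := RefFun.exists_eq_cls a.toMul
    obtain ⟨B, hB, hB'⟩ := RefFun.exists_eq_cls b.toMul
    have h1 : a.toMul * b.toMul = RefFun.cls L hL := congrArg Additive.toMul h
    rw [hA', hB'] at h1
    have h2 := congrArg Subtype.val h1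
    rw [RefFun.cls_mul_cls_val] at h2
    obtain ⟨e⟩ := (PicGrp.cl_eq_cl_iff _ _).mp h2
    exact (HasGen.tensor hA.1 hB.1 (ha A hA (congrArg Additive.ofMul hA'))
      (hb B hB (congrArg Additive.ofMul hB'))).of_iso e

theorem cls_mem_effAt [IsIntegral Y] [IsLocallyNoetherian Y] [RefFun.Law Y] {y : Y} {L : Y.Modules}
    (hL : IsRef1 L) (h : HasGen y L) : Additive.ofMul (RefFun.cls L hL) ∈ effAt y := by
  intro M hM e
  obtain ⟨e'⟩ := (RefFun.cls_eq_cls_iff hL hM).mp (congrArg Additive.toMul e)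
  exact h.of_iso e'

/-- The dual of the ideal of an irreducible closed subset avoiding `y`. -/
theorem hasGen_dual_idealMod [IsLocallyNoetherian Y] {x y : Y} (h : ¬ x ⤳ y) :
    HasGen y (dual (ClSub.idealMod (IntMult.ptIdeal x))) := by
  have hy : y ∉ ((IntMult.ptIdeal x).support : Set Y) := by
    intro hy
    have hr : Set.range (IntMult.ptIdeal x).subschemeι = closure {x} := K432.CurveLift.range_ptIdeal x
    rw [← Scheme.IdealSheafData.range_subschemeι, hr] at hy
    exact h (specializes_iff_mem_closure.mpr hy)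
  have hb : Function.Bijective (stalkMapₗ (ClSub.idealModι (IntMult.ptIdeal x)) y) :=
    K879.CutDiv.bijective_idealModι (IntMult.ptIdeal x) hy
  obtain ⟨t, ht⟩ := hb.2 (unitGerm y)
  have hc := K476.DivSec.isCoh_idealMod (IntMult.ptIdeal x)
  have htg : IsGen (ClSub.idealMod (IntMult.ptIdeal x)) y t := by
    have h1 : (fun r : Y.presheaf.stalk y => r • unitGerm (X := Y) y) =
        (stalkMapₗ (ClSub.idealModι (IntMult.ptIdeal x)) y) ∘ (fun r : Y.presheaf.stalk y => r • t) := by
      funext r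
      rw [Function.comp_apply, LinearMap.map_smul, ht]
    have h2 := isGen_unitGerm (X := Y) y
    change Function.Bijective (fun r : Y.presheaf.stalk y => r • unitGerm (X := Y) y) at h2
    rw [h1] at h2
    exact (Function.Bijective.of_comp_iff' hb _).mp h2
  obtain ⟨δ, hδ, hδt⟩ := K476.DivSec.exists_dual_gen hc htg
  refine ⟨ofHom (ClSub.idealModι (IntMult.ptIdeal x)) ⊤, ?_⟩
  have h2 : K476.DivSec.sGerm (IntMult.ptIdeal x) y = δ := by
    refine (dualStalkEquiv _ (isFP_of_isCoh hc) y).injective ?_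
    refine LinearMap.ext fun m => ?_
    obtain ⟨a, rfl⟩ := htg.2 m
    change (dualStalkEquiv _ (isFP_of_isCoh hc) y) (K476.DivSec.sGerm (IntMult.ptIdeal x) y) (a • t) =
      (dualStalkEquiv _ (isFP_of_isCoh hc) y) δ (a • t)
    rw [LinearMap.map_smul, LinearMap.map_smul]
    congr 1
    rw [dualStalkEquiv_apply, dualStalkEquiv_apply, hδt, K476.DivSec.evalStalk_sGerm, ht]
  change IsGen _ y (K476.DivSec.sGerm (IntMult.ptIdeal x) y)
  rw [h2]
  exact hδ

/-- **The determinant of a coherent module not supported at `y`.** -/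
theorem dh_mem_effAt [IsNoetherian Y] [IsIntegral Y] [RefFun.Law Y]
    {dh : SGA6.Kcoh Y →+ Additive (RefFun.Ref1Set Y)} (hdh : KDet.IsDetHat Y dh)
    {G : Y.Modules} (hG : Coh.IsCoh G) {y : Y} (hy : y ∉ CohB1.support G) :
    dh (KDet.clc Y G) ∈ effAt y := by
  let S : Set Y := {x : Y | (2 : WithBot ℕ∞) ≤ ringKrullDim (Y.presheaf.stalk x)}
  let T : Set Y := {x : Y | ¬ x ⤳ y}
  have hGT : CohB1.support G ⊆ T := by
    intro z hz hzy
    exact hy (hzy.mem_closed (Ega3B.Devissage.isClosed_support hG) hz)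
  have hη : ∀ x ∈ T, x ≠ genericPoint Y := by
    rintro x hx rfl
    exact hx (genericPoint_specializes y)
  have hST : ∀ x ∈ T, x ∉ S → ∀ z, x ⤳ z → z ≠ x → z ∈ S := by
    intro x hxT hxS z hxz hzx
    have h1 : ringKrullDim (Y.presheaf.stalk x) = 1 := dim_eq_one (hη x hxT) hxS
    have h2 := IntSh.K877.Pts.dim_add_one_le hxz hzx.symm
    rw [h1] at h2
    exact le_trans (by norm_num) h2
  obtain ⟨m, hm, hcl, -⟩ := IntSh.K877.Dev.exists_devissage S T
    (fun x hx z hxz => le_trans hx (IntSh.K877.Pts.dim_mono hxz)) hST G hG hGT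
  have h2 : dh (IntSh.K877.Dev.cl G -
      m.sum (fun x n => n • IntSh.K877.Dev.cl (Cyc.closureStructureSheaf x))) = 0 := by
    apply hdh.map_coniv_two
    exact hcl
  rw [map_sub, sub_eq_zero, Finsupp.sum, map_sum] at h2
  change dh (IntSh.K877.Dev.cl G) ∈ _
  rw [h2]
  refine sum_mem fun x hx => ?_
  rw [map_nsmul]
  refine AddSubmonoid.nsmul_mem _ ?_ _
  obtain ⟨hxT, hx2⟩ := hm x (Finsupp.mem_support_iff.mp hx)
  have h1 : ringKrullDim (Y.presheaf.stalk x) = 1 := dim_eq_one (hη x hxT) hx2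
  have h3 := hdh.map_primeDivisor x h1 (isRef1_primeDivisor (hη x hxT))
  change dh (KDet.clc Y (Cyc.closureStructureSheaf x)) ∈ _
  rw [h3]
  exact cls_mem_effAt _ (hasGen_dual_idealMod hxT)

/-- **Invertibility and global generation.** A class which modulo codimension two is, for every point, the class of
a coherent module not supported there, has an invertible globally generated determinant. -/
theorem exists_gg [IsNoetherian Y] [IsIntegral Y] [RefFun.Law Y]
    {dh : SGA6.Kcoh Y →+ Additive (RefFun.Ref1Set Y)} (hdh : KDet.IsDetHat Y dh)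
    {c : SGA6.Kcoh Y} (hc : ∀ y : Y, ∃ G : Y.Modules, Coh.IsCoh G ∧ y ∉ CohB1.support G ∧
      c - KDet.clc Y G ∈ KDet.coniv Y 2) :
    ∃ (L : Y.Modules) (hR : IsRef1 L), PicF.IsInvertible L ∧ dh c = Additive.ofMul (RefFun.cls L hR) ∧
      ∃ (m : ℕ) (t : FlatMod.freeMod Y m ⟶ L), Epi t := by
  obtain ⟨L, hL, hL'⟩ := RefFun.exists_eq_cls (dh c).toMul
  have hcl : dh c = Additive.ofMul (RefFun.cls L hL) := congrArg Additive.ofMul hL'
  have hgen : ∀ y : Y, HasGen y L := by
    intro y
    obtain ⟨G, hG, hGy, hcG⟩ := hc y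
    have h1 : dh c = dh (KDet.clc Y G) := by
      rw [← sub_eq_zero, ← map_sub]
      exact hdh.map_coniv_two _ hcG
    have h2 := dh_mem_effAt hdh hG hGy
    rw [← h1] at h2
    exact h2 L hL hcl
  refine ⟨L, hL, ?_, hcl, ?_⟩
  · refine K476.RegRef.isInvertible_of_isGen hL.1 fun y => ?_
    obtain ⟨m, hm⟩ := hgen y
    exact ⟨_, hm⟩
  · refine Groth.Agent.Ega2.H287.FinGenFree.exists_epi_freeMod hL.1 ?_
    rw [Groth.Agent.VarietyB.GGStalk.isGloballyGenerated_iff_span]
    intro y
    obtain ⟨m, hm⟩ := hgen y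
    rw [eq_top_iff]
    intro v _
    obtain ⟨a, rfl⟩ := hm.2 v
    exact Submodule.smul_mem _ a (Submodule.subset_span ⟨m, rfl⟩)

end K879.EffPt
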