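import Groth.Agent.IntSh.K878.DetLoc
import Groth.Agent.Dcoh.Restrict

/-!
# Classes of rank one reflexive modules with a global section which is nonzero at the generic point

`eff` is a submonoid of `Ref¹(Y)`; the determinant of a torsion coherent module lies in it.
-/

set_option autoImplicit false
set_option backward.isDefEq.respectTransparency false
universe u
open CategoryTheory CategoryTheory.Limits AlgebraicGeometry Opposite TopologicalSpace
open AlgebraicGeometry.Scheme.Modules RefHull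
open Groth.Agent Groth.Agent.Sga67 Groth.Agent.Sga67.CohBasic

namespace K879.EffSec

open K878.KSup K878.DetLoc K476.HomSh1 K476.HomSh3 K476.HomSh4 Groth.Agent.CycB.ModStalk K475.GenStalk
open K476.TensStalk K476.Ref1

variable {Y : Scheme.{u}}

/-- Some global section does not vanish at the generic point. -/
def HasSec [IsIntegral Y] (L : Y.Modules) : Prop :=
  ∃ m : Γ(L, ⊤), L.presheaf.germ ⊤ (η Y) trivial m ≠ 0

theorem exists_hom [IsIntegral Y] {L : Y.Modules} (h : HasSec L) :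
    ∃ s : Coh.structureModule Y ⟶ L, s ≠ 0 := by
  obtain ⟨m, hm⟩ := h
  refine ⟨Dcoh.Restrict.unitHom m, fun h0 => hm ?_⟩
  have h1 := Dcoh.Restrict.unitHom_app_one m
  rw [h0] at h1
  have h2 : m = 0 := h1.symm
  rw [h2, map_zero]

theorem HasSec.map [IsIntegral Y] {L M : Y.Modules} (h : HasSec L) (f : L ⟶ M)
    (hf : Function.Injective (stalkMapₗ f (η Y))) : HasSec M := by
  obtain ⟨m, hm⟩ := h
  refine ⟨f.app ⊤ m, fun h0 => hm (hf ?_)⟩
  rw [map_zero]
  refine Eq.trans ?_ h0
  exact stalkMapₗ_germ f _ _ _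

theorem HasSec.of_iso [IsIntegral Y] {L M : Y.Modules} (h : HasSec L) (e : L ≅ M) : HasSec M :=
  h.map e.hom (bijective_stalkMapₗ_of_isIso e.hom _).1

theorem nontrivial_stalk [IsIntegral Y] (x : Y) : Nontrivial (Y.presheaf.stalk x) := inferInstance

theorem isGen_ne_zero {L : Y.Modules} {x : Y} {t : L.presheaf.stalk x} (ht : IsGen L x t) : t ≠ 0 := by
  intro h0
  have h1 : (1 : Y.presheaf.stalk x) = 0 := ht.1 (by simp only [h0, smul_zero])
  exact one_ne_zero h1

theorem hasSec_structure [IsIntegral Y] : HasSec (Coh.structureModule Y) := by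
  refine ⟨((1 : Y.ringCatSheaf.obj.obj (op ⊤)) : (Coh.structureModule Y).val.obj (op ⊤)), ?_⟩
  intro h0
  exact isGen_ne_zero (isGen_unitGerm (X := Y) (η Y)) ((germ_one (X := Y) (U := ⊤) (x := η Y) trivial).symm.trans h0)

theorem isGen_smul_ne_zero {L : Y.Modules} {x : Y} {t : L.presheaf.stalk x} (ht : IsGen L x t)
    {a : Y.presheaf.stalk x} (ha : a ≠ 0) : a • t ≠ 0 := by
  intro h0
  exact ha (ht.1 (by simp only [h0, zero_smul]))

theorem HasSec.tensor [IsIntegral Y] [IsLocallyNoetherian Y] {L M : Y.Modules} (hL : IsRef1 L)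
    (hM : IsRef1 M) (h : HasSec L) (h' : HasSec M) : HasSec (RefPow.refTensor L M) := by
  obtain ⟨m, hm⟩ := h
  obtain ⟨n, hn⟩ := h'
  obtain ⟨t, ht⟩ := (genInvertible_iff hL.1).mp hL.2.2
  obtain ⟨t', ht'⟩ := (genInvertible_iff hM.1).mp hM.2.2
  obtain ⟨a, ha⟩ := ht.2 (L.presheaf.germ ⊤ (η Y) trivial m)
  obtain ⟨b, hb⟩ := ht'.2 (M.presheaf.germ ⊤ (η Y) trivial n)
  have hgen := isGen_bidual (isCoh_tensorMod hL.1 hM.1) (isGen_stmul ht ht')
  have ha0 : a ≠ 0 := by
    rintro rfl
    exact hm (ha.symm.trans (zero_smul _ _))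
  have hb0 : b ≠ 0 := by
    rintro rfl
    exact hn (hb.symm.trans (zero_smul _ _))
  refine ⟨(bidualMap (CohB1.tensorMod L M)).app ⊤ (SecTwist.tmul L M ⊤ m n), ?_⟩
  have h1 : (ddual (CohB1.tensorMod L M)).presheaf.germ ⊤ (η Y) trivial
      ((bidualMap (CohB1.tensorMod L M)).app ⊤ (SecTwist.tmul L M ⊤ m n)) =
      stalkMapₗ (bidualMap (CohB1.tensorMod L M)) (η Y)
        ((CohB1.tensorMod L M).presheaf.germ ⊤ (η Y) trivial (SecTwist.tmul L M ⊤ m n)) :=
    (stalkMapₗ_germ _ _ _ _).symm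
  change (ddual (CohB1.tensorMod L M)).presheaf.germ ⊤ (η Y) trivial
      ((bidualMap (CohB1.tensorMod L M)).app ⊤ (SecTwist.tmul L M ⊤ m n)) ≠ 0
  rw [h1, ← stmul_germ, ← ha, ← hb]
  change stalkMapₗ (bidualMap (CohB1.tensorMod L M)) (η Y) (stmul (a • t) (b • t')) ≠ 0
  rw [smul_stmul, stmul_smul, smul_smul, LinearMap.map_smul]
  exact isGen_smul_ne_zero hgen (mul_ne_zero ha0 hb0)

/-- The submonoid of the classes of modules with a section. -/
def eff (Y : Scheme.{u}) [IsIntegral Y] [IsLocallyNoetherian Y] [RefFun.Law Y] :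
    AddSubmonoid (Additive (RefFun.Ref1Set Y)) where
  carrier := {c | ∀ (L : Y.Modules) (hL : IsRef1 L), c = Additive.ofMul (RefFun.cls L hL) → HasSec L}
  zero_mem' := fun L hL h => by
    have h1 : (1 : RefFun.Ref1Set Y) = RefFun.cls L hL := congrArg Additive.toMul h
    obtain ⟨e⟩ := (RefFun.cls_eq_one_iff hL).mp h1.symm
    exact hasSec_structure.of_iso e.symm
  add_mem' := fun {a b} ha hb L hL h => by
    obtain ⟨A, hA, hA'⟩ := RefFun.exists_eq_cls a.toMul
    obtain ⟨B, hB, hB'⟩ := RefFun.exists_eq_cls b.toMul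
    have h1 : a.toMul * b.toMul = RefFun.cls L hL := congrArg Additive.toMul h
    rw [hA', hB'] at h1
    have h2 := congrArg Subtype.val h1
    rw [RefFun.cls_mul_cls_val] at h2
    obtain ⟨e⟩ := (PicGrp.cl_eq_cl_iff _ _).mp h2
    exact (HasSec.tensor hA hB (ha A hA (congrArg Additive.ofMul hA'))
      (hb B hB (congrArg Additive.ofMul hB'))).of_iso e

theorem cls_mem_eff [IsIntegral Y] [IsLocallyNoetherian Y] [RefFun.Law Y] {L : Y.Modules}
    (hL : IsRef1 L) (h : HasSec L) : Additive.ofMul (RefFun.cls L hL) ∈ eff Y := by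
  intro M hM e
  obtain ⟨e'⟩ := (RefFun.cls_eq_cls_iff hL hM).mp (congrArg Additive.toMul e)
  exact h.of_iso e'

/-- Elements of `eff` are classes of rank one reflexive modules with a nonzero section. -/
theorem exists_of_mem_eff [IsIntegral Y] [IsLocallyNoetherian Y] [RefFun.Law Y]
    {c : Additive (RefFun.Ref1Set Y)} (hc : c ∈ eff Y) :
    ∃ (L : Y.Modules) (hR : IsRef1 L), c = Additive.ofMul (RefFun.cls L hR) ∧
      ∃ s : Coh.structureModule Y ⟶ L, s ≠ 0 := by
  obtain ⟨A, hA, hA'⟩ := RefFun.exists_eq_cls c.toMul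
  have h : c = Additive.ofMul (RefFun.cls A hA) := congrArg Additive.ofMul hA'
  exact ⟨A, hA, h, exists_hom (hc A hA h)⟩

/-- The dual of the ideal of a proper closed subset has a section. -/
theorem hasSec_dual_idealMod [IsIntegral Y] [IsLocallyNoetherian Y] {x : Y} (hx : x ≠ genericPoint Y) :
    HasSec (dual (ClSub.idealMod (IntMult.ptIdeal x))) := by
  have hη : genericPoint Y ∉ CohB1.support (Cyc.closureStructureSheaf x) := by
    rw [K233.LenK0.support_closureStructureSheaf]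
    intro h
    exact hx ((specializes_iff_mem_closure.mpr h).antisymm (genericPoint_specializes x)).eq
  refine ⟨ofHom (ClSub.idealModι (IntMult.ptIdeal x)) ⊤, fun h0 => ?_⟩
  have h1 := congrArg (evalStalk (ClSub.idealMod (IntMult.ptIdeal x)) (Coh.structureModule Y) (η Y)) h0
  rw [map_zero] at h1
  have h2 := (evalStalk_germ _ _ (η Y) (U := ⊤) trivial (ofHom (ClSub.idealModι (IntMult.ptIdeal x)) ⊤)).symm.trans h1
  rw [ofHom_apply, stalkMapₗ_eq] at h2
  have hex : (ShortComplex.mk (ClSub.idealModι (IntMult.ptIdeal x)) (ClSub.toSubscheme (IntMult.ptIdeal x))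
      (kernel.condition _)).Exact := ShortComplex.exact_kernel _
  have h3 := Groth.Agent.CycB.StalkExact.stalkLin_exact _ hex (η Y)
  have hsub : Subsingleton ((Cyc.closureStructureSheaf x).presheaf.stalk (η Y)) := by
    rwa [Groth.Agent.CohqB.DevSupport.not_mem_support_iff] at hη
  obtain ⟨v, hv⟩ := (h3 (unitGerm (η Y))).mp (hsub.elim _ _)
  have h4 : unitGerm (X := Y) (η Y) = 0 := by
    rw [← hv]
    exact congrArg (fun f => f v) h2
  exact isGen_ne_zero (isGen_unitGerm (X := Y) (η Y)) h4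

/-- **The determinant of a torsion coherent module has a section.** -/
theorem dh_mem_eff [IsNoetherian Y] [IsIntegral Y] [RefFun.Law Y]
    {dh : SGA6.Kcoh Y →+ Additive (RefFun.Ref1Set Y)} (hdh : KDet.IsDetHat Y dh)
    {G : Y.Modules} (hG : Coh.IsCoh G) (hη : genericPoint Y ∉ CohB1.support G) :
    dh (KDet.clc Y G) ∈ eff Y := by
  let S : Set Y := {x : Y | (2 : WithBot ℕ∞) ≤ ringKrullDim (Y.presheaf.stalk x)}
  let T : Set Y := {x : Y | x ≠ genericPoint Y}
  have hGT : CohB1.support G ⊆ T := by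
    rintro z hz rfl
    exact hη hz
  have hST : ∀ x ∈ T, x ∉ S → ∀ z, x ⤳ z → z ≠ x → z ∈ S := by
    intro x hxT hxS z hxz hzx
    have h1 : ringKrullDim (Y.presheaf.stalk x) = 1 := dim_eq_one hxT hxS
    have h2 := IntSh.K877.Pts.dim_add_one_le hxz hzx.symm
    rw [h1] at h2
    exact le_trans (by norm_num) h2
  obtain ⟨m, hm, hcl, -⟩ := IntSh.K877.Dev.exists_devissage S T
    (fun x hx z hxz => le_trans hx (IntSh.K877.Pts.dim_mono hxz)) hST G hG hGT
  have h2 : dh (IntSh.K877.Dev.cl G -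
      m.sum (fun x n => n • IntSh.K877.Dev.cl (Cyc.closureStructureSheaf x))) = 0 := by
    apply hdh.map_coniv_two
    exact hcl
  rw [map_sub, sub_eq_zero, Finsupp.sum, map_sum] at h2
  change dh (IntSh.K877.Dev.cl G) ∈ _
  rw [h2]
  refine sum_mem fun x hx => ?_
  rw [map_nsmul]
  refine AddSubmonoid.nsmul_mem _ ?_ _
  obtain ⟨hxT, hx2⟩ := hm x (Finsupp.mem_support_iff.mp hx)
  have h1 : ringKrullDim (Y.presheaf.stalk x) = 1 := dim_eq_one hxT hx2
  have h3 := hdh.map_primeDivisor x h1 (isRef1_primeDivisor hxT)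
  change dh (KDet.clc Y (Cyc.closureStructureSheaf x)) ∈ _
  rw [h3]
  exact cls_mem_eff _ (hasSec_dual_idealMod hxT)

end K879.EffSec
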