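import Groth.Agent.IntSh.K879.Eff
import Groth.Agent.IntSh.K879.AffGen
import Groth.Agent.PerfC.PullRestrict
import Groth.Agent.IntSh.K878.DeltaMem
import Groth.Agent.IntSh.K879.KosCap
import Groth.Agent.WDiv.K654.PolyCrit
import Groth.Agent.CycB.C1Pull
import Groth.Agent.IntSh.K879.EfDesc
import Groth.Agent.IntSh.K479.Cut
import Groth.Agent.IntSh.K274.FibDl

/-!
# Iterated cuts by the universal section of a globally generated invertible module
-/

set_option autoImplicit false
universe u

open CategoryTheory CategoryTheory.Limits AlgebraicGeometry Opposite TopologicalSpace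

namespace K879.GGInd

open Groth.Agent K878.KSup K878.PBPush K878.FibDelta K879.AffBC K879.AffGen K879.Eff K878.CapEx
open K879.EfDesc K479.Cut K274.FibDl


/-- `(1 - M)^k` commutes with flat pull-back. -/
theorem pull_pow {X Y : Scheme.{u}} (f : X ⟶ Y) [Flat f] [IsLocallyNoetherian X] [IsLocallyNoetherian Y]
    {M : Y.Modules} (hM : FlatMod.IsFinLocFree M) (k : ℕ) (ξ : SGA6.Kcoh Y) :
    pull f (((1 - opE M) ^ k : AddMonoid.End (SGA6.Kcoh Y)) ξ) =
      ((1 - opE ((Scheme.Modules.pullback f).obj M)) ^ k : AddMonoid.End (SGA6.Kcoh X)) (pull f ξ) := by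
  induction k generalizing ξ with
  | zero => rfl
  | succ k ih =>
    rw [pow_succ, pow_succ]
    change pull f (((1 - opE M) ^ k : AddMonoid.End (SGA6.Kcoh Y)) (ξ - opE M ξ)) =
      ((1 - opE ((Scheme.Modules.pullback f).obj M)) ^ k : AddMonoid.End (SGA6.Kcoh X))
        (pull f ξ - opE _ (pull f ξ))
    rw [ih, map_sub]
    congr 2
    exact pull_cap f hM ξ

theorem gg {n : ℕ} (k : ℕ) : ∀ {X Y : Scheme.{u}} [AlgebraicGeometry.IsNoetherian X]
    [AlgebraicGeometry.IsNoetherian Y] [IsIntegral Y] [Y.IsSeparated] (_ : Pi1.IsNormalScheme Y)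
    (π : X ⟶ Y) [IsProper π] [HasInjectiveResolutions X.Modules] {N : ℕ}
    {gc : SGA6.Kcoh X →+ SGA6.Kcoh Y} (_ : KRR.IsPushCoh π N gc) {L M : X.Modules}
    (_ : PicF.IsInvertible L) (_ : PicF.IsInvertible M) (_ : ClSub.IsInverseOf L M)
    (s : FlatMod.freeMod X n ⟶ L) [Epi s] {F : X.Modules} (_ : Coh.IsCoh F) (y : Y)
    (_ : ∀ x ∈ CohB1.support F, π x = y → dl π x < k)
    (_ : ∀ x ∈ CohB1.support F, π x = genericPoint Y → dl π x < k)
    (_ : ∀ x ∈ CohB1.support F, ringKrullDim (Y.presheaf.stalk (π x)) ≤ 1 → dl π x ≤ k),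
    gc (((1 - opE M) ^ k : AddMonoid.End (SGA6.Kcoh X)) (KDet.clc X F)) ∈ Ef Y y := by
  induction k with
  | zero =>
    intro X Y _ _ _ _ hYn π _ _ N gc hgc L M hL hM hLM s _ F hF y hy _ h1
    exact base π hgc hF y (fun x hx hxy => absurd (hy x hx hxy) (Nat.not_lt_zero _)) h1
  | succ k ih =>
    intro X Y _ _ _ _ hYn π _ _ N gc hgc L M hL hM hLM s _ F hF y hy hη h1
    have hMf : FlatMod.IsFinLocFree M := K878.DeltaMem.flf hM
    obtain ⟨F₁, hF₁, hcl, hs1, hs2⟩ := exists_cut hL hM hLM s hF
    obtain ⟨ζ, hζ, hgen⟩ := exists_gen (n := n) y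
    have hinj : HasInjectiveResolutions (Af n X).Modules := Dcoh.DerSch.hasInjectiveResolutions _
    obtain ⟨N', gc', hgc', hbc⟩ := exists_push n π hgc
    rw [← hζ]
    refine desc hYn ζ ?_
    have hL' : PicF.IsInvertible ((Scheme.Modules.pullback (pr n X)).obj L) :=
      CycB.C1Pull.isInvertible_pullback _ hL
    have hM' : PicF.IsInvertible ((Scheme.Modules.pullback (pr n X)).obj M) :=
      CycB.C1Pull.isInvertible_pullback _ hM
    have hLM' : ClSub.IsInverseOf ((Scheme.Modules.pullback (pr n X)).obj L)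
        ((Scheme.Modules.pullback (pr n X)).obj M) := by
      obtain ⟨e⟩ := hLM
      exact ⟨(Krr.H482.PullTens.pullTensorIso (pr n X) L M).symm ≪≫
        (Scheme.Modules.pullback (pr n X)).mapIso e ≪≫ Krr.H482.PullTens.pullUnitIso (pr n X)⟩
    let s' : FlatMod.freeMod (Af n X) n ⟶ (Scheme.Modules.pullback (pr n X)).obj L :=
      (PerfC.PullRestrict.pullbackFreeMod (pr n X) n).inv ≫ (Scheme.Modules.pullback (pr n X)).map s
    have hs' : Epi s' := epi_comp _ _
    have key : pull (pr n Y) (gc (((1 - opE M) ^ (k + 1) : AddMonoid.End (SGA6.Kcoh X)) (KDet.clc X F))) =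
        gc' (((1 - opE ((Scheme.Modules.pullback (pr n X)).obj M)) ^ k :
          AddMonoid.End (SGA6.Kcoh (Af n X))) (KDet.clc (Af n X) F₁)) := by
      rw [← hbc, pow_succ]
      change gc' (pull (pr n X) (((1 - opE M) ^ k : AddMonoid.End (SGA6.Kcoh X))
        (KDet.clc X F - opE M (KDet.clc X F)))) = _
      rw [pull_pow _ hMf, map_sub]
      have h2 : opE M (KDet.clc X F) = KDet.clc X (((DCoh.tensorBi (X := X)).obj F).obj M) := by
        refine (capHom_cl hMf hF).trans ?_
        exact clc_congr (Ega2.Tens.swap M F)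
      have h3 : Coh.IsCoh (((DCoh.tensorBi (X := X)).obj F).obj M) := K879.KosCap.isCoh_tensor hMf hF
      rw [h2, pull_clc _ hF, pull_clc _ h3, ← hcl]
    rw [key]
    refine ih (isNormal n hYn) (mp n π) hgc' hL' hM' hLM' s' hF₁ ζ ?_ ?_ ?_
    · intro z hz hzζ
      have hg : ∀ w, pr n Y w = pr n Y (mp n π z) → mp n π z ⤳ w := by
        rw [hzζ]; exact hgen
      have h2 := dl_map_lt π z (hs2 z hz) hg
      have h3 := hy _ (hs1 z hz) (by
        rw [← hζ, ← hzζ]
        exact (pr_mp n π z).symm)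
      exact lt_of_lt_of_le h2 (Nat.lt_succ_iff.1 h3)
    · intro z hz hzη
      have hg : ∀ w, pr n Y w = pr n Y (mp n π z) → mp n π z ⤳ w := by
        rw [hzη]
        intro w _
        exact genericPoint_specializes w
      have h2 := dl_map_lt π z (hs2 z hz) hg
      have h4 : pr n Y (genericPoint (Af n Y)) = genericPoint Y :=
        (K654.PolyMap.isPoly_affineSpace (ULift.{u} (Fin n)) Y).generic
      have h3 := hη _ (hs1 z hz) (by
        rw [← h4, ← hzη]
        exact (pr_mp n π z).symm)
      exact lt_of_lt_of_le h2 (Nat.lt_succ_iff.1 h3)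
    · intro z hz hz1
      have hle : Order.coheight (mp n π z) ≤ 1 := by
        rw [ringKrullDim_stalk_eq_coheight] at hz1
        exact_mod_cast hz1
      by_cases hg : IsGen (mp n π z)
      · have h2 := dl_map_lt π z (hs2 z hz) hg
        have h3 := h1 _ (hs1 z hz) (by
          rw [ringKrullDim_stalk_eq_coheight]
          have h5 := coheight_pr_le n (mp n π z)
          rw [pr_mp] at h5
          exact_mod_cast h5.trans hle)
        exact lt_of_lt_of_le h2 h3 |> Nat.lt_succ_iff.1
      · have h2 := coheight_lt hg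
        have h0 : Order.coheight (pr n Y (mp n π z)) = 0 := by
          have h5 := lt_of_lt_of_le h2 hle
          exact Order.lt_one_iff.1 h5
        have h6 : π (pr n X z) = genericPoint Y := by
          rw [pr_mp] at h0
          rw [Order.coheight_eq_zero] at h0
          have h7 : genericPoint Y ⤳ π (pr n X z) := genericPoint_specializes _
          have h8 : π (pr n X z) ⤳ genericPoint Y := h0 h7
          exact (h8.antisymm h7).eq
        have h3 := hη _ (hs1 z hz) h6
        exact (dl_map_le π z).trans (Nat.lt_succ_iff.1 h3)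

end K879.GGInd
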