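import Groth.Agent.IntSh.K879.LatNu
import Mathlib.Algebra.Exact
import Mathlib.Algebra.Module.Projective
import Mathlib.LinearAlgebra.FreeModule.Basic

/-!
# Additivity of the order of a generic basis
-/

set_option autoImplicit false
universe u v

namespace K879.LatNu

open Module Function

section basis

variable {K : Type*} [Field K] {V' V V'' : Type*} [AddCommGroup V'] [Module K V'] [AddCommGroup V]
  [Module K V] [AddCommGroup V''] [Module K V''] {I : V' →ₗ[K] V} {P : V →ₗ[K] V''}
  {ι' ι'' : Type*}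

/-- A basis adapted to an exact sequence. -/
theorem exists_basis (hI : Injective I) (hP : Surjective P) (hIP : Exact I P) (b' : Basis ι' K V')
    (b'' : Basis ι'' K V'') : ∃ b : Basis (ι' ⊕ ι'') K V,
      (∀ i, b (Sum.inl i) = I (b' i)) ∧ ∀ j, P (b (Sum.inr j)) = b'' j := by
  obtain ⟨s, hs⟩ := P.exists_rightInverse_of_surjective (LinearMap.range_eq_top.2 hP)
  obtain ⟨e, he1, he2⟩ := hIP.splitSurjectiveEquiv hI ⟨s, hs⟩
  refine ⟨(b'.prod b'').map e.symm, fun i => ?_, fun j => ?_⟩
  · rw [Module.Basis.map_apply, Module.Basis.prod_apply, he1]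
    rfl
  · rw [Module.Basis.map_apply, Module.Basis.prod_apply, he2]
    simp

variable [Fintype ι'] [DecidableEq ι'] [Fintype ι''] [DecidableEq ι'']

theorem det_sum (hP : Surjective P) (hIP : Exact I P) {b' : Basis ι' K V'} {b'' : Basis ι'' K V''}
    {b : Basis (ι' ⊕ ι'') K V} (hb1 : ∀ i, b (Sum.inl i) = I (b' i))
    (hb2 : ∀ j, P (b (Sum.inr j)) = b'' j) (v' : ι' → V') (w : ι'' → V) :
    b.det (Sum.elim (fun i => I (v' i)) w) = b'.det v' * b''.det (fun j => P (w j)) := by
  have h1 : ∀ (x : V') (k : ι'), b.repr (I x) (Sum.inl k) = b'.repr x k := by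
    intro x k
    have h := congrArg (fun z => b.repr (I z) (Sum.inl k)) (b'.sum_repr x)
    simp only [map_sum, map_smul, Finsupp.coe_finsetSum, Finset.sum_apply, Finsupp.coe_smul,
      Pi.smul_apply, smul_eq_mul, ← hb1, Module.Basis.repr_self] at h
    rw [← h, Finset.sum_eq_single k]
    · simp
    · intro i _ hik
      rw [Finsupp.single_apply, if_neg (fun h => hik (Sum.inl_injective h)), mul_zero]
    · intro h
      exact absurd (Finset.mem_univ _) h
  have h2 : ∀ (x : V') (k : ι''), b.repr (I x) (Sum.inr k) = 0 := by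
    intro x k
    have h := congrArg (fun z => b.repr (I z) (Sum.inr k)) (b'.sum_repr x)
    simp only [map_sum, map_smul, Finsupp.coe_finsetSum, Finset.sum_apply, Finsupp.coe_smul,
      Pi.smul_apply, smul_eq_mul, ← hb1, Module.Basis.repr_self] at h
    rw [← h]
    refine Finset.sum_eq_zero fun i _ => ?_
    rw [Finsupp.single_apply, if_neg (by simp), mul_zero]
  have h3 : ∀ (x : V) (k : ι''), b''.repr (P x) k = b.repr x (Sum.inr k) := by
    intro x k
    have h := congrArg (fun z => b''.repr (P z) k) (b.sum_repr x)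
    have h4 : ∀ i, P (I (b' i)) = 0 := fun i => (hIP _).2 ⟨_, rfl⟩
    simp only [Fintype.sum_sum_type, map_add, map_sum, map_smul, hb1, h4, hb2, smul_zero,
      Finset.sum_const_zero, zero_add, Module.Basis.repr_self, Finsupp.coe_finsetSum, Finset.sum_apply,
      Finsupp.coe_smul, Pi.smul_apply, smul_eq_mul] at h
    rw [← h]
    rw [Finset.sum_eq_single k]
    · simp
    · intro i _ hik
      rw [Finsupp.single_apply, if_neg hik, mul_zero]
    · intro h
      exact absurd (Finset.mem_univ _) h
  have h4 : b.toMatrix (Sum.elim (fun i => I (v' i)) w) =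
      Matrix.fromBlocks (b'.toMatrix v') (Matrix.of fun k j => b.repr (w j) (Sum.inl k)) 0
        (b''.toMatrix fun j => P (w j)) := by
    ext a c
    rcases a with a | a <;> rcases c with c | c
    · exact h1 _ _
    · rfl
    · exact h2 _ _
    · exact (h3 _ _).symm
  rw [Module.Basis.det_apply, h4, Matrix.det_fromBlocks_zero₂₁]
  rfl

end basis

section add

variable {R : Type u} {K : Type*} [CommRing R] [Field K] [Algebra R K]
  {M' M M'' : Type*} [AddCommGroup M'] [Module R M'] [AddCommGroup M] [Module R M] [AddCommGroup M'']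
  [Module R M'']
  {V' V V'' : Type*} [AddCommGroup V'] [Module K V'] [AddCommGroup V] [Module K V] [AddCommGroup V'']
  [Module K V'']
  {ι' ι'' : Type*} [Fintype ι'] [DecidableEq ι'] [Fintype ι''] [DecidableEq ι'']
  [IsDomain R] [IsFractionRing R K] [IsNoetherianRing R] [Ring.KrullDimLE 1 R]
  [Module.Finite R M'] [Module.Finite R M]

theorem IsNu.add {f' : M' →+ V'} {f : M →+ V} {f'' : M'' →+ V''} (hf' : LocG R K f') (hf : LocG R K f)
    (hf'' : LocG R K f'') [Module.Finite R M'']
    (i : M' →ₗ[R] M) (p : M →ₗ[R] M'') (hi : Injective i) (hp : Surjective p) (hex : Exact i p)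
    (I : V' →ₗ[K] V) (P : V →ₗ[K] V'') (hP : Surjective P) (hIP : Exact I P)
    (hc1 : ∀ x, f (i x) = I (f' x)) (hc2 : ∀ x, f'' (p x) = P (f x))
    {o : K → ℤ} (homul : ∀ a b : K, a ≠ 0 → b ≠ 0 → o (a * b) = o a + o b)
    {b' : Basis ι' K V'} {b'' : Basis ι'' K V''} {b : Basis (ι' ⊕ ι'') K V}
    (hb1 : ∀ i, b (Sum.inl i) = I (b' i)) (hb2 : ∀ j, P (b (Sum.inr j)) = b'' j) {n' n'' : ℤ}
    (h' : IsNu R f' o b' n') (h'' : IsNu R f'' o b'' n'') : IsNu R f o b (n' + n'') := by
  obtain ⟨m', hm', rfl⟩ := h'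
  obtain ⟨m'', hm'', rfl⟩ := h''
  choose w hw using fun j => hp (m'' j)
  have hdet : b.det (f ∘ Sum.elim (fun k => i (m' k)) w) = b'.det (f' ∘ m') * b''.det (f'' ∘ m'') := by
    have h1 : (f ∘ Sum.elim (fun k => i (m' k)) w) = Sum.elim (fun k => I (f' (m' k))) (f ∘ w) := by
      funext a
      rcases a with a | a
      · exact hc1 _
      · rfl
    rw [h1, det_sum hP hIP hb1 hb2 (fun k => f' (m' k)) (f ∘ w)]
    congr 2
    funext j
    change P (f (w j)) = f'' (m'' j)
    rw [← hc2, hw]
  have hlen : Module.length R (M ⧸ Submodule.span R (Set.range (Sum.elim (fun k => i (m' k)) w))) =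
      Module.length R (M' ⧸ Submodule.span R (Set.range m')) +
        Module.length R (M'' ⧸ Submodule.span R (Set.range m'')) := by
    refine length_exact i p hi hp hex _ _ _ ?_ ?_ ?_
    · rw [Submodule.map_span, Submodule.span_le]
      rintro _ ⟨_, ⟨k, rfl⟩, rfl⟩
      exact Submodule.subset_span ⟨Sum.inl k, rfl⟩
    · rw [Submodule.map_span]
      refine le_antisymm (Submodule.span_le.2 ?_) (Submodule.span_le.2 ?_)
      · rintro _ ⟨_, ⟨k, rfl⟩, rfl⟩
        rcases k with k | k
        · have h1 : p (i (m' k)) = 0 := (hex _).2 ⟨_, rfl⟩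
          change p (i (m' k)) ∈ _
          rw [h1]
          exact zero_mem _
        · change p (w k) ∈ _
          rw [hw]
          exact Submodule.subset_span ⟨k, rfl⟩
      · rintro _ ⟨k, rfl⟩
        exact Submodule.subset_span ⟨w k, ⟨Sum.inr k, rfl⟩, hw k⟩
    · intro x hx
      rw [Submodule.mem_span_range_iff_exists_fun] at hx
      obtain ⟨c, hc⟩ := hx
      rw [Fintype.sum_sum_type] at hc
      change ∑ k, c (Sum.inl k) • i (m' k) + ∑ k, c (Sum.inr k) • w k = i x at hc
      have h1 := congrArg p hc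
      have h2 : p (i x) = 0 := (hex _).2 ⟨_, rfl⟩
      have h3 : p (∑ k, c (Sum.inl k) • i (m' k)) = 0 := by
        rw [map_sum]
        refine Finset.sum_eq_zero fun k _ => ?_
        rw [map_smul, (hex _).2 ⟨_, rfl⟩, smul_zero]
      rw [h2, map_add, h3, zero_add, map_sum] at h1
      simp only [map_smul, hw] at h1
      have h4 := Fintype.linearIndependent_iff.1 (linearIndependent hf'' hm'') _ h1
      simp only [h4, zero_smul, Finset.sum_const_zero, add_zero] at hc
      have h5 : i (∑ k, c (Sum.inl k) • m' k) = i x := by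
        rw [← hc, map_sum]
        simp only [map_smul]
      rw [← hi h5]
      exact Submodule.sum_mem _ fun k _ => Submodule.smul_mem _ _ (Submodule.subset_span ⟨k, rfl⟩)
  refine ⟨Sum.elim (fun k => i (m' k)) w, ?_, ?_⟩
  · rw [hdet]
    exact mul_ne_zero hm' hm''
  · rw [hdet, homul _ _ hm' hm'', hlen, ENat.toNat_add (length_ne_top hf' hm') (length_ne_top hf'' hm'')]
    push_cast
    ring

end add

end K879.LatNu
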