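import Groth.Agent.MiscA.LenDet
import Groth.Agent.CycB.LenSum
import Mathlib.LinearAlgebra.Determinant
import Mathlib.LinearAlgebra.Matrix.Basis

/-!
# The order of a generic basis of a finite module over a one-dimensional Noetherian domain

For `f : M → V` a localization at the generic point (`V` a vector space over the fraction field `K` of `R`), a
basis `b` of `V` and `m : ι → M` whose images form a basis, the number
`length (M / span m) - ord (det_b (f m))` does not depend on `m`; it is additive on exact sequences.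
-/

set_option autoImplicit false
universe u v

namespace K879.LatNu

open Module Function

section length

variable {R : Type*} [CommRing R] {N M P : Type*} [AddCommGroup N] [Module R N] [AddCommGroup M] [Module R M]
  [AddCommGroup P] [Module R P]

theorem length_map (Φ : N →ₗ[R] M) (hΦ : Injective Φ) (W : Submodule R N) :
    Module.length R (M ⧸ W.map Φ) =
      Module.length R (N ⧸ W) + Module.length R (M ⧸ LinearMap.range Φ) := by
  let f : (N ⧸ W) →ₗ[R] (M ⧸ W.map Φ) := W.mapQ (W.map Φ) Φ (Submodule.le_comap_map Φ W)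
  let g : (M ⧸ W.map Φ) →ₗ[R] (M ⧸ LinearMap.range Φ) := Submodule.factor (LinearMap.map_le_range)
  refine Module.length_eq_add_of_exact f g ?_ ?_ ?_
  · rw [injective_iff_map_eq_zero]
    intro x hx
    obtain ⟨x, rfl⟩ := W.mkQ_surjective x
    change (W.map Φ).mkQ (Φ x) = 0 at hx
    rw [Submodule.mkQ_apply, Submodule.Quotient.mk_eq_zero] at hx
    obtain ⟨y, hy, hyx⟩ := hx
    have h1 := hΦ hyx
    subst h1
    exact (Submodule.Quotient.mk_eq_zero _).2 hy
  · exact Submodule.factor_surjective _
  · intro y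
    obtain ⟨y, rfl⟩ := (W.map Φ).mkQ_surjective y
    constructor
    · intro h
      change (LinearMap.range Φ).mkQ y = 0 at h
      rw [Submodule.mkQ_apply, Submodule.Quotient.mk_eq_zero] at h
      obtain ⟨x, rfl⟩ := h
      exact ⟨W.mkQ x, rfl⟩
    · rintro ⟨x, hx⟩
      obtain ⟨x, rfl⟩ := W.mkQ_surjective x
      rw [← hx]
      change (LinearMap.range Φ).mkQ (Φ x) = 0
      rw [Submodule.mkQ_apply, Submodule.Quotient.mk_eq_zero]
      exact ⟨x, rfl⟩

/-- Lengths of quotients in an exact sequence. -/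
theorem length_exact (i : N →ₗ[R] M) (p : M →ₗ[R] P) (hi : Injective i) (hp : Surjective p)
    (hex : Exact i p) (A : Submodule R N) (B : Submodule R M) (C : Submodule R P)
    (hA : A.map i ≤ B) (hC : B.map p = C) (hAB : ∀ x, i x ∈ B → x ∈ A) :
    Module.length R (M ⧸ B) = Module.length R (N ⧸ A) + Module.length R (P ⧸ C) := by
  let f : (N ⧸ A) →ₗ[R] (M ⧸ B) := A.mapQ B i (Submodule.map_le_iff_le_comap.1 hA)
  let g : (M ⧸ B) →ₗ[R] (P ⧸ C) := B.mapQ C p (Submodule.map_le_iff_le_comap.1 hC.le)
  refine Module.length_eq_add_of_exact f g ?_ ?_ ?_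
  · rw [injective_iff_map_eq_zero]
    intro x hx
    obtain ⟨x, rfl⟩ := A.mkQ_surjective x
    change B.mkQ (i x) = 0 at hx
    rw [Submodule.mkQ_apply, Submodule.Quotient.mk_eq_zero] at hx
    exact (Submodule.Quotient.mk_eq_zero _).2 (hAB x hx)
  · intro y
    obtain ⟨y, rfl⟩ := C.mkQ_surjective y
    obtain ⟨x, rfl⟩ := hp y
    exact ⟨B.mkQ x, rfl⟩
  · intro y
    obtain ⟨y, rfl⟩ := B.mkQ_surjective y
    constructor
    · intro h
      change C.mkQ (p y) = 0 at h
      rw [Submodule.mkQ_apply, Submodule.Quotient.mk_eq_zero, ← hC] at h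
      obtain ⟨z, hz, hzy⟩ := h
      have h1 : p (y - z) = 0 := by rw [map_sub, hzy, sub_self]
      obtain ⟨x, hx⟩ := (hex _).1 h1
      refine ⟨A.mkQ x, ?_⟩
      change B.mkQ (i x) = B.mkQ y
      rw [hx, Submodule.mkQ_apply, Submodule.mkQ_apply, Submodule.Quotient.eq]
      rw [sub_sub_cancel_left]
      exact B.neg_mem hz
    · rintro ⟨x, hx⟩
      obtain ⟨x, rfl⟩ := A.mkQ_surjective x
      rw [← hx]
      change C.mkQ (p (i x)) = 0
      rw [(hex _).2 ⟨x, rfl⟩, map_zero]

end length

section matrix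

variable {R : Type u} [CommRing R] [IsNoetherianRing R] {M : Type*} [AddCommGroup M] [Module R M]
  {ι : Type*} [Fintype ι] [DecidableEq ι]

theorem length_span_mul {m : ι → M} (hm : LinearIndependent R m) (C : Matrix ι ι R)
    (hC : C.det ∈ nonZeroDivisors R) :
    Module.length R (M ⧸ Submodule.span R (Set.range fun j => ∑ i, C i j • m i)) =
      Ring.ord R C.det + Module.length R (M ⧸ Submodule.span R (Set.range m)) := by
  have hinj : Injective (Fintype.linearCombination R m) := by
    rw [← LinearMap.ker_eq_bot, LinearMap.ker_eq_bot']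
    intro c hc
    rw [Fintype.linearCombination_apply] at hc
    funext i
    exact Fintype.linearIndependent_iff.1 hm c hc i
  have h1 : Submodule.span R (Set.range fun j => ∑ i, C i j • m i) =
      (LinearMap.range C.mulVecLin).map (Fintype.linearCombination R m) := by
    rw [← Fintype.range_linearCombination (R := R), ← LinearMap.range_comp]
    congr 1
    refine LinearMap.ext fun c => ?_
    rw [LinearMap.comp_apply, Fintype.linearCombination_apply, Fintype.linearCombination_apply]
    simp only [Matrix.mulVecLin_apply, Matrix.mulVec, dotProduct, Finset.smul_sum, Finset.sum_smul,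
      smul_smul]
    rw [Finset.sum_comm]
    refine Finset.sum_congr rfl fun i _ => Finset.sum_congr rfl fun j _ => ?_
    rw [mul_comm]
  rw [h1, length_map _ hinj, Fintype.range_linearCombination]
  congr 1
  exact Groth.Agent.MiscA.LenDet.cokerLen_eq_ord_det C hC

end matrix

section nu

variable {R : Type u} {K : Type*} [CommRing R] [Field K] [Algebra R K]
  {M : Type*} {V : Type*} [AddCommGroup M] [Module R M] [AddCommGroup V] [Module K V]

/-- `f : M → V` is a localization at the generic point. -/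
structure LocG (R K : Type*) [CommRing R] [Field K] [Algebra R K] {M V : Type*} [AddCommGroup M] [Module R M]
    [AddCommGroup V] [Module K V] (f : M →+ V) : Prop where
  smul : ∀ (r : R) (m : M), f (r • m) = algebraMap R K r • f m
  surj : ∀ v : V, ∃ a : R, a ≠ 0 ∧ ∃ m : M, algebraMap R K a • v = f m
  ker : ∀ m : M, f m = 0 → ∃ a : R, a ≠ 0 ∧ a • m = 0

variable {ι : Type*} [Fintype ι] [DecidableEq ι]

/-- The order of the generic basis `b`. -/
def IsNu (R : Type u) {K : Type*} [CommRing R] [Field K] [Algebra R K]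
    {M : Type*} {V : Type*} [AddCommGroup M] [Module R M] [AddCommGroup V] [Module K V]
    {ι : Type*} [Fintype ι] [DecidableEq ι] (f : M →+ V) (o : K → ℤ) (b : Basis ι K V) (n : ℤ) : Prop :=
  ∃ m : ι → M, b.det (f ∘ m) ≠ 0 ∧
    n = ((Module.length R (M ⧸ Submodule.span R (Set.range m))).toNat : ℤ) - o (b.det (f ∘ m))

variable [IsDomain R] [IsFractionRing R K] {f : M →+ V} (hf : LocG R K f)

theorem alg_ne_zero {a : R} (ha : a ≠ 0) : algebraMap R K a ≠ 0 := by
  intro h
  exact ha ((IsFractionRing.injective R K) (h.trans (map_zero _).symm))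

include hf

theorem f_sum (c : ι → R) (m : ι → M) : f (∑ i, c i • m i) = ∑ i, algebraMap R K (c i) • f (m i) := by
  rw [map_sum]
  exact Finset.sum_congr rfl fun i _ => hf.smul _ _

theorem linearIndependent {b : Basis ι K V} {m : ι → M} (h : b.det (f ∘ m) ≠ 0) :
    LinearIndependent R m := by
  have h1 := ((Module.Basis.is_basis_iff_det b (v := f ∘ m)).2 (isUnit_iff_ne_zero.2 h)).1
  rw [Fintype.linearIndependent_iff] at h1 ⊢
  intro c hc i
  have h2 := f_sum hf c m
  rw [hc, map_zero] at h2
  have h3 := h1 (fun i => algebraMap R K (c i)) h2.symm i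
  exact (IsFractionRing.injective R K) (h3.trans (map_zero _).symm)

theorem exists_smul_mem {b : Basis ι K V} {m : ι → M} (h : b.det (f ∘ m) ≠ 0) (x : M) :
    ∃ a : R, a ≠ 0 ∧ a • x ∈ Submodule.span R (Set.range m) := by
  have h1 := ((Module.Basis.is_basis_iff_det b (v := f ∘ m)).2 (isUnit_iff_ne_zero.2 h)).2
  have h2 : f x ∈ Submodule.span K (Set.range (f ∘ m)) := by rw [h1]; trivial
  rw [Submodule.mem_span_range_iff_exists_fun] at h2
  obtain ⟨k, hk⟩ := h2
  obtain ⟨d, hd⟩ := IsLocalization.exist_integer_multiples_of_finite (nonZeroDivisors R) k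
  choose n hn using hd
  have h3 : f (d.1 • x - ∑ i, n i • m i) = 0 := by
    rw [map_sub, f_sum hf, hf.smul, ← hk, Finset.smul_sum, sub_eq_zero]
    refine Finset.sum_congr rfl fun i _ => ?_
    rw [hn, smul_smul, Algebra.smul_def]
    rfl
  obtain ⟨a, ha, ha'⟩ := hf.ker _ h3
  refine ⟨a * d.1, mul_ne_zero ha (nonZeroDivisors.ne_zero d.2), ?_⟩
  rw [smul_sub, sub_eq_zero] at ha'
  rw [mul_smul, ha']
  exact Submodule.smul_mem _ _ (Submodule.sum_mem _ fun i _ =>
    Submodule.smul_mem _ _ (Submodule.subset_span ⟨i, rfl⟩))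

theorem exists_smul_mem_all [Module.Finite R M] {b : Basis ι K V} {m : ι → M}
    (h : b.det (f ∘ m) ≠ 0) :
    ∃ a : R, a ≠ 0 ∧ ∀ x : M, a • x ∈ Submodule.span R (Set.range m) := by
  have htor : Module.IsTorsion R (M ⧸ Submodule.span R (Set.range m)) := by
    intro x
    obtain ⟨x, rfl⟩ := (Submodule.span R (Set.range m)).mkQ_surjective x
    obtain ⟨a, ha, hax⟩ := exists_smul_mem hf h x
    refine ⟨⟨a, mem_nonZeroDivisors_of_ne_zero ha⟩, ?_⟩
    change a • (Submodule.span R (Set.range m)).mkQ x = 0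
    rw [← map_smul, Submodule.mkQ_apply, Submodule.Quotient.mk_eq_zero]
    exact hax
  obtain ⟨a, ha, ha'⟩ := Submodule.annihilator_top_inter_nonZeroDivisors htor
  refine ⟨a, nonZeroDivisors.ne_zero ha', fun x => ?_⟩
  have h1 := (Submodule.mem_annihilator.1 ha) ((Submodule.span R (Set.range m)).mkQ x) trivial
  rw [← map_smul, Submodule.mkQ_apply, Submodule.Quotient.mk_eq_zero] at h1
  exact h1

theorem length_ne_top [IsNoetherianRing R] [Ring.KrullDimLE 1 R] [Module.Finite R M] {b : Basis ι K V}
    {m : ι → M} (h : b.det (f ∘ m) ≠ 0) :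
    Module.length R (M ⧸ Submodule.span R (Set.range m)) ≠ ⊤ := by
  obtain ⟨a, ha, ha'⟩ := exists_smul_mem_all hf h
  refine Groth.Agent.CycB.LenSum.length_ne_top_of_smul_eq_zero a ?_ _ ?_
  · rintro ⟨q, hq, hq'⟩ haq
    have h1 : q.asIdeal = ⊥ := by
      rw [IsDomain.minimalPrimes_eq_singleton_bot] at hq
      exact hq
    rw [h1] at haq
    exact ha haq
  · intro n
    obtain ⟨n, rfl⟩ := (Submodule.span R (Set.range m)).mkQ_surjective n
    rw [← map_smul, Submodule.mkQ_apply, Submodule.Quotient.mk_eq_zero]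
    exact ha' n

theorem det_comb (b : Basis ι K V) (m : ι → M) (C : Matrix ι ι R) :
    b.det (f ∘ fun j => ∑ i, C i j • m i) = b.det (f ∘ m) * algebraMap R K C.det := by
  rw [Module.Basis.det_apply, Module.Basis.det_apply, RingHom.map_det, ← Matrix.det_mul]
  congr 1
  ext k j
  rw [Module.Basis.toMatrix_apply, Matrix.mul_apply, Function.comp_apply, f_sum hf]
  simp only [map_sum, map_smul, Finsupp.coe_finsetSum, Finset.sum_apply, Finsupp.coe_smul, Pi.smul_apply,
    smul_eq_mul]
  refine Finset.sum_congr rfl fun i _ => ?_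
  rw [mul_comm, Module.Basis.toMatrix_apply]
  rfl

variable {o : K → ℤ} (homul : ∀ a b : K, a ≠ 0 → b ≠ 0 → o (a * b) = o a + o b)
  (ho : ∀ r : R, r ≠ 0 → o (algebraMap R K r) = ((Ring.ord R r).toNat : ℤ))

include homul ho in
theorem compare [IsNoetherianRing R] [Ring.KrullDimLE 1 R] [Module.Finite R M] {b : Basis ι K V}
    {m : ι → M} (h : b.det (f ∘ m) ≠ 0) (C : Matrix ι ι R) (hC : C.det ≠ 0) :
    ((Module.length R (M ⧸ Submodule.span R (Set.range fun j => ∑ i, C i j • m i))).toNat : ℤ) -
      o (b.det (f ∘ fun j => ∑ i, C i j • m i)) =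
    ((Module.length R (M ⧸ Submodule.span R (Set.range m))).toNat : ℤ) - o (b.det (f ∘ m)) := by
  have hC' : C.det ∈ nonZeroDivisors R := mem_nonZeroDivisors_of_ne_zero hC
  have hord : Ring.ord R C.det ≠ ⊤ := by
    refine Groth.Agent.CycB.LenSum.length_ne_top_of_smul_eq_zero C.det ?_ _ ?_
    · rintro ⟨q, hq, hq'⟩ haq
      have h1 : q.asIdeal = ⊥ := by
        rw [IsDomain.minimalPrimes_eq_singleton_bot] at hq
        exact hq
      rw [h1] at haq
      exact hC haq
    · intro n
      obtain ⟨n, rfl⟩ := Ideal.Quotient.mk_surjective n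
      rw [← Ideal.Quotient.mk_eq_mk, ← Submodule.Quotient.mk_smul, Submodule.Quotient.mk_eq_zero]
      exact Ideal.mul_mem_right _ _ (Ideal.mem_span_singleton_self _)
  rw [length_span_mul (linearIndependent hf h) C hC', det_comb hf b m C,
    homul _ _ h (alg_ne_zero hC), ho _ hC, ENat.toNat_add hord (length_ne_top hf h)]
  push_cast
  ring

include homul ho in
/-- Independence of the choice of the elements. -/
theorem IsNu.unique [IsNoetherianRing R] [Ring.KrullDimLE 1 R] [Module.Finite R M] {b : Basis ι K V}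
    {n n' : ℤ} (h : IsNu R f o b n) (h' : IsNu R f o b n') : n = n' := by
  obtain ⟨m, hm, rfl⟩ := h
  obtain ⟨m', hm', rfl⟩ := h'
  obtain ⟨a, ha, ha'⟩ := exists_smul_mem_all hf hm
  have h1 : ∀ j, ∃ c : ι → R, ∑ i, c i • m i = a • m' j := fun j => by
    have := ha' (m' j)
    rwa [Submodule.mem_span_range_iff_exists_fun] at this
  choose c hc using h1
  have h2 := compare hf homul ho hm' (Matrix.diagonal fun _ => a) (by
    rw [Matrix.det_diagonal, Finset.prod_const]
    exact pow_ne_zero _ ha)
  have h3 : (fun j => ∑ i, (Matrix.diagonal fun _ : ι => a) i j • m' i) = fun j => a • m' j := by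
    funext j
    rw [Finset.sum_eq_single j]
    · rw [Matrix.diagonal_apply_eq]
    · intro i _ hij
      rw [Matrix.diagonal_apply_ne _ hij, zero_smul]
    · intro h
      exact absurd (Finset.mem_univ _) h
  have h4 : (fun j => ∑ i, (Matrix.of fun i j => c j i) i j • m i) = fun j => a • m' j := by
    funext j
    exact hc j
  have h5 : (Matrix.of fun i j => c j i : Matrix ι ι R).det ≠ 0 := by
    intro h0
    have h6 := det_comb hf b m (Matrix.of fun i j => c j i)
    rw [h0, map_zero, mul_zero, h4, ← h3, det_comb hf b m', Matrix.det_diagonal, Finset.prod_const] at h6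
    exact (mul_ne_zero hm' (alg_ne_zero (pow_ne_zero _ ha))) h6
  have h6 := compare hf homul ho hm _ h5
  rw [h4] at h6
  rw [h3] at h2
  rw [← h6, ← h2]

theorem exists_isNu (b : Basis ι K V) : ∃ n, IsNu R f o b n := by
  choose a ha m hm using fun i : ι => hf.surj (b i)
  refine ⟨_, m, ?_, rfl⟩
  have h1 : (f ∘ m) = fun i => algebraMap R K (a i) • b i := by
    funext i
    exact (hm i).symm
  rw [h1, AlternatingMap.map_smul_univ, Module.Basis.det_self, smul_eq_mul, mul_one]
  exact Finset.prod_ne_zero_iff.2 fun i _ => alg_ne_zero (ha i)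

omit hf [IsDomain R] [IsFractionRing R K] in
theorem IsNu.reindex {ι' : Type*} [Fintype ι'] [DecidableEq ι'] (e : ι ≃ ι') {b : Basis ι K V} {n : ℤ}
    (h : IsNu R f o b n) : IsNu R f o (b.reindex e) n := by
  obtain ⟨m, hm, rfl⟩ := h
  have h1 : (b.reindex e).det (f ∘ (m ∘ e.symm)) = b.det (f ∘ m) := by
    rw [Module.Basis.det_reindex]
    congr 1
    funext i
    simp
  have h2 : Set.range (m ∘ e.symm) = Set.range m := e.symm.surjective.range_comp m
  refine ⟨m ∘ e.symm, ?_, ?_⟩
  · rw [h1]; exact hm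
  · rw [h1, h2]

omit hf [IsDomain R] [IsFractionRing R K] in
include homul in
theorem IsNu.change {b : Basis ι K V} (b' : Basis ι K V) {n : ℤ} (h : IsNu R f o b n) :
    IsNu R f o b' (n + o (b.det b')) := by
  obtain ⟨m, hm, rfl⟩ := h
  have h1 : b.det (f ∘ m) = b.det b' * b'.det (f ∘ m) := by
    rw [Module.Basis.det_apply, Module.Basis.det_apply, Module.Basis.det_apply, ← Matrix.det_mul,
      Module.Basis.toMatrix_mul_toMatrix]
  have h2 : b.det b' ≠ 0 ∧ b'.det (f ∘ m) ≠ 0 := by
    rw [h1] at hm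
    exact ⟨left_ne_zero_of_mul hm, right_ne_zero_of_mul hm⟩
  refine ⟨m, h2.2, ?_⟩
  rw [h1, homul _ _ h2.1 h2.2]
  ring

end nu

end K879.LatNu
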